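import Groth.Agent.Sga5.ProjConn
import Groth.Agent.Sga5.ProjHyper
import Groth.Agent.Ega3B.ProjProper
import Mathlib.Algebra.MvPolynomial.Equiv

/-!
# The affine line as the complement of a point in the projective line
-/

set_option autoImplicit false
universe u
open CategoryTheory CategoryTheory.Limits AlgebraicGeometry Opposite

namespace Groth.Agent.Vancyc.H588.P1

open Groth.Agent.Sga5.ProjSmooth Groth.Agent.Sga5.ProjHyper

variable (k : Type u) [Field k]

/-- `k[x_0] ≅ k[t]`. -/
noncomputable def ringIso : CommRingCat.of (MvPolynomial (Fin 1) k) ≅ CommRingCat.of (Polynomial k) :=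
  (MvPolynomial.uniqueAlgEquiv k (Fin 1)).toRingEquiv.toCommRingCatIso

/-- `Spec k[t] ≅ Spec k[x_0]`. -/
noncomputable def lineIso : Spec (CommRingCat.of (Polynomial k)) ≅
    Spec (CommRingCat.of (MvPolynomial (Fin 1) k)) := Scheme.Spec.mapIso (ringIso k).op

theorem lineIso_hom : (lineIso k).hom = Spec.map (ringIso k).hom := rfl

theorem lineIso_toSpec : (lineIso k).hom ≫
    Spec.map (CommRingCat.ofHom (MvPolynomial.C : k →+* MvPolynomial (Fin 1) k)) =
      Spec.map (CommRingCat.ofHom (Polynomial.C : k →+* Polynomial k)) := by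
  rw [lineIso_hom, ← Spec.map_comp]
  congr 1
  apply CommRingCat.hom_ext
  apply RingHom.ext
  intro x
  exact (MvPolynomial.uniqueAlgEquiv k (Fin 1)).commutes x

/-- The affine line in the projective line. -/
noncomputable def w : Spec (CommRingCat.of (Polynomial k)) ⟶ CohB1.ProjSpace 1 k :=
  (lineIso k).hom ≫ chart 1 k (Fin.last 1)

instance : IsOpenImmersion (w k) := by
  unfold w
  infer_instance

theorem w_toSpec : w k ≫ CohB1.ProjSpace.toSpec 1 k =
    Spec.map (CommRingCat.ofHom (Polynomial.C : k →+* Polynomial k)) := by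
  rw [w, Category.assoc, chart_toSpec, lineIso_toSpec]

instance : IsProper (CohB1.ProjSpace 1 k ↘ Spec (CommRingCat.of k)) :=
  Groth.Agent.Ega3B.ProjProper.isProper_toSpec 1 k

instance : SmoothOfRelativeDimension 1 (CohB1.ProjSpace 1 k ↘ Spec (CommRingCat.of k)) :=
  smooth_toSpec 1 k

theorem subsingleton_P0 : Subsingleton (CohB1.ProjSpace 0 k) ∧ Nonempty (CohB1.ProjSpace 0 k) := by
  have h1 : Function.Surjective (chart 0 k 0) := by
    intro x
    obtain ⟨i, hi⟩ := exists_mem_chart 0 k x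
    obtain rfl : i = 0 := Fin.eq_zero i
    exact hi
  have e : MvPolynomial (Fin 0) k ≃+* k := (MvPolynomial.isEmptyAlgEquiv k (Fin 0)).toRingEquiv
  have h2 : Subsingleton (PrimeSpectrum (MvPolynomial (Fin 0) k)) :=
    (PrimeSpectrum.comapEquiv e).subsingleton
  have h3 : Subsingleton (Spec (CommRingCat.of (MvPolynomial (Fin 0) k))) := h2
  have h4 : Nonempty (Spec (CommRingCat.of (MvPolynomial (Fin 0) k))) := inferInstance
  exact ⟨h1.subsingleton, ⟨chart 0 k 0 h4.some⟩⟩

theorem exists_compl : ∃ x₀ : CohB1.ProjSpace 1 k, (Set.range (w k))ᶜ = {x₀} := by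
  obtain ⟨h1, ⟨p⟩⟩ := subsingleton_P0 k
  refine ⟨hyper 0 k p, ?_⟩
  have h2 : Set.range (w k) = Set.range (chart 1 k (Fin.last 1)) := by
    have h3 : Function.Surjective (lineIso k).hom := (Scheme.homeoOfIso (lineIso k)).surjective
    ext x
    constructor
    · rintro ⟨y, rfl⟩
      exact ⟨(lineIso k).hom y, rfl⟩
    · rintro ⟨y, rfl⟩
      obtain ⟨z, rfl⟩ := h3 y
      exact ⟨z, rfl⟩
  have h4 := range_hyper 0 k
  rw [h2]
  refine Eq.trans h4.symm ?_
  ext x
  constructor
  · rintro ⟨y, rfl⟩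
    rw [Subsingleton.elim y p]
    rfl
  · rintro rfl
    exact ⟨p, rfl⟩

end Groth.Agent.Vancyc.H588.P1
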