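import Groth.Agent.Lefpen.H714.EulerEt
import Groth.Agent.Etrest.ConstBasic
import Groth.Agent.Etrest.HConstIso
import Groth.Agent.S3098

/-!
# Constancy of the Euler characteristic of the geometric fibres of a proper smooth morphism (E1 of S4015)
-/

set_option autoImplicit false
universe u
open CategoryTheory CategoryTheory.Limits AlgebraicGeometry Opposite

namespace Groth.Agent.Vancyc.H588.E1

open Groth.Agent.Lefpen.H714 EulerAlg EulerEt

/-- Over a connected base the Euler characteristics of the geometric fibres of a proper smooth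
morphism are equal. -/
theorem ec_eq {X Y : Scheme.{u}} (f : X ⟶ Y) [IsProper f] [Smooth f] [ConnectedSpace Y] (ℓ : ℕ)
    [Fact ℓ.Prime] (hℓ : IsUnit (ℓ : Γ(Y, ⊤)))
    {Ω Ω' : Type u} [Field Ω] [IsSepClosed Ω] [Field Ω'] [IsSepClosed Ω']
    (a : Spec (CommRingCat.of Ω) ⟶ Y) (b : Spec (CommRingCat.of Ω') ⟶ Y) :
    ec ℓ (pullback f a) = ec ℓ (pullback f b) := by
  have h1 : ∀ {Ω'' : Type u} [Field Ω''] (c : Spec (CommRingCat.of Ω'') ⟶ Y),
      e (pullback f c) ((EtCoh.pull (pullback.fst f c)).obj (EtCoh.const X (ZMod ℓ))) =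
        ec ℓ (pullback f c) := fun c => e_iso (EtCore.pullConst (pullback.fst f c) (ZMod ℓ))
  rw [← h1 a, ← h1 b]
  refine e_congr fun q => ?_
  obtain ⟨e1⟩ := Groth.Agent.S3098.result f inferInstance ℓ hℓ (EtCoh.const X (ZMod ℓ))
    (Etrest.ConstBasic.isFiniteLocallyConstant_const X (ZMod ℓ))
    (Etrest.ConstBasic.killedBy_const X (ZMod ℓ) ℓ (by simp)) a b q
  exact ⟨e1.toEquiv⟩

/-- The same, for schemes identified with geometric fibres. -/
theorem ec_eq_of_isPullback {X Y X₁ X₂ : Scheme.{u}} (f : X ⟶ Y) [IsProper f] [Smooth f]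
    [ConnectedSpace Y] (ℓ : ℕ) [Fact ℓ.Prime] (hℓ : IsUnit (ℓ : Γ(Y, ⊤)))
    {Ω Ω' : Type u} [Field Ω] [IsSepClosed Ω] [Field Ω'] [IsSepClosed Ω']
    {a : Spec (CommRingCat.of Ω) ⟶ Y} {b : Spec (CommRingCat.of Ω') ⟶ Y}
    {p₁ : X₁ ⟶ X} {q₁ : X₁ ⟶ Spec (CommRingCat.of Ω)} (h₁ : IsPullback p₁ q₁ f a)
    {p₂ : X₂ ⟶ X} {q₂ : X₂ ⟶ Spec (CommRingCat.of Ω')} (h₂ : IsPullback p₂ q₂ f b) :
    ec ℓ X₁ = ec ℓ X₂ := by
  have h3 : ec ℓ X₁ = ec ℓ (pullback f a) := e_congr fun q => by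
    obtain ⟨e1⟩ := Etrest.HConstIso.nonempty_HConst h₁.isoPullback (ZMod ℓ) q
    first
      | exact ⟨e1.toEquiv⟩
      | exact ⟨e1.symm.toEquiv⟩
  have h4 : ec ℓ X₂ = ec ℓ (pullback f b) := e_congr fun q => by
    obtain ⟨e1⟩ := Etrest.HConstIso.nonempty_HConst h₂.isoPullback (ZMod ℓ) q
    first
      | exact ⟨e1.toEquiv⟩
      | exact ⟨e1.symm.toEquiv⟩
  rw [h3, h4, ec_eq f ℓ hℓ a b]

end Groth.Agent.Vancyc.H588.E1
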