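import Groth.Prelude.Def_Hensel
import Groth.Agent.Hensel.Lazard
import Groth.Agent.Fdesc.FlatStalk
import Mathlib.AlgebraicGeometry.Morphisms.Etale
import Mathlib.AlgebraicGeometry.ResidueField
import Mathlib.FieldTheory.IsAlgClosed.Basic
import Mathlib.RingTheory.Flat.TorsionFree

/-!
# The uniformizing map `k[t] ⟶ R` (assembly of S4015)

`S` over the algebraically closed field `k`, `S₀` an open neighbourhood of the `k`-rational point `s`, `τ : S₀ ⟶ 𝔸^1` etale with
`τ(s) = 0`, `R` a strict henselization of the local ring of `S` at `s`. The map `Spec R ⟶ S` factors through `r₀ : Spec R ⟶ S₀`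
and `r₀ ≫ τ` is given by `φ : k[t] ⟶ R` which is bijective on residue fields and `φ t` is a nonzero nonunit.
-/

set_option autoImplicit false

universe u

open CategoryTheory CategoryTheory.Limits AlgebraicGeometry IsLocalRing

namespace Groth.Agent.Vancyc.H588.AsmMap

/-- A `k`-rational point of a `k`-scheme has residue field `k`. -/
theorem surjective_of_section {k : Type u} [Field k] {S : Scheme.{u}} (pS : S ⟶ Spec (CommRingCat.of k))
    (e : Spec (CommRingCat.of k) ⟶ S) (he : e ≫ pS = 𝟙 _) (s : S) (hs : e (closedPoint k) = s)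
    (β : CommRingCat.of k ⟶ S.residueField s) (hβ : Spec.map β = S.fromSpecResidueField s ≫ pS) :
    Function.Surjective β.hom := by
  subst hs
  let γ : S.residueField (e (closedPoint k)) ⟶ CommRingCat.of k := S.descResidueField (Scheme.stalkClosedPointTo e)
  have h1 : Spec.map γ ≫ S.fromSpecResidueField (e (closedPoint k)) = e :=
    Scheme.descResidueField_stalkClosedPointTo_fromSpecResidueField k S e
  have h3 : β ≫ γ = 𝟙 _ := by
    apply Spec.map_injective
    have h2 : Spec.map (β ≫ γ) = Spec.map γ ≫ Spec.map β := Spec.map_comp _ _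
    refine h2.trans ((congrArg (fun z => Spec.map γ ≫ z) hβ).trans ?_)
    refine (Category.assoc _ _ _).symm.trans ((congrArg (fun z => z ≫ pS) h1).trans (he.trans (Spec.map_id _).symm))
  have h4 : ∀ c : k, γ.hom (β.hom c) = c := fun c => congr($(h3).hom c)
  intro x
  refine ⟨γ.hom x, ?_⟩
  apply γ.hom.injective
  exact h4 (γ.hom x)

/-- A morphism from a flat scheme into an open subscheme. -/
theorem flat_of_comp_open {T S S₀ : Scheme.{u}} (r : T ⟶ S₀) (j : S₀ ⟶ S) [IsOpenImmersion j] (h : Flat (r ≫ j)) :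
    Flat r := by
  have h6 : IsPullback (𝟙 _) r (r ≫ j) j := by
    refine ⟨⟨by simp⟩, ⟨PullbackCone.IsLimit.mk _ (fun s => s.fst) (fun s => by simp) (fun s => ?_)
      (fun s m h7 _ => by simpa using h7)⟩⟩
    rw [← cancel_mono j, Category.assoc]
    exact s.condition
  exact MorphismProperty.of_isPullback (P := @Flat) h6 h

/-- **The map `k[t] ⟶ R`.** -/
theorem exists_phi {k : Type u} [Field k] [IsAlgClosed k] {S : Scheme.{u}} (pS : S ⟶ Spec (CommRingCat.of k))
    {S₀ : Scheme.{u}} (j : S₀ ⟶ S) [IsOpenImmersion j] (τ : S₀ ⟶ Spec (CommRingCat.of (Polynomial k))) [Etale τ]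
    (hjp : j ≫ pS = τ ≫ Spec.map (CommRingCat.ofHom Polynomial.C)) (e₀ : Spec (CommRingCat.of k) ⟶ S₀)
    (he₀ : e₀ ≫ τ = Spec.map (CommRingCat.ofHom (Polynomial.evalRingHom (0 : k))))
    (s : S) (hs : (e₀ ≫ j) (closedPoint k) = s)
    (R : Type u) [CommRing R] [IsDomain R] [IsLocalRing R]
    [Algebra ↑(S.presheaf.stalk s) R] [IsLocalHom (algebraMap ↑(S.presheaf.stalk s) R)]
    [Hensel.IsStrictHenselization ↑(S.presheaf.stalk s) R] :
    ∃ (r₀ : Spec (CommRingCat.of R) ⟶ S₀) (φ : Polynomial k →+* R),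
      r₀ ≫ j = Spec.map (CommRingCat.ofHom (algebraMap ↑(S.presheaf.stalk s) R)) ≫ S.fromSpecStalk s ∧
      r₀ ≫ τ = Spec.map (CommRingCat.ofHom φ) ∧
      r₀ (closedPoint R) = e₀ (closedPoint k) ∧
      Function.Surjective ((residue R).comp (φ.comp Polynomial.C)) ∧
      φ Polynomial.X ∈ maximalIdeal R ∧ φ Polynomial.X ≠ 0 ∧
      Mono (Spec.map (CommRingCat.ofHom (residue R)) ≫ r₀) := by
  let a : S.presheaf.stalk s ⟶ CommRingCat.of R := CommRingCat.ofHom (algebraMap ↑(S.presheaf.stalk s) R)
  let σ : Spec (CommRingCat.of R) ⟶ S := Spec.map a ≫ S.fromSpecStalk s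
  have hσcl : σ (closedPoint R) = s := by
    have h0 : (Spec.map a) (closedPoint R) = closedPoint ↑(S.presheaf.stalk s) := by
      have : IsLocalHom a.hom := inferInstanceAs (IsLocalHom (algebraMap ↑(S.presheaf.stalk s) R))
      exact Spec_closedPoint
    rw [Scheme.Hom.comp_apply, h0, Scheme.fromSpecStalk_closedPoint]
  have hrange : Set.range σ ⊆ Set.range j := by
    rintro _ ⟨x, rfl⟩
    have h1 : σ x ∈ Set.range (S.fromSpecStalk s) := ⟨_, (Scheme.Hom.comp_apply _ _ x).symm⟩
    rw [Scheme.range_fromSpecStalk] at h1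
    exact h1.mem_open j.isOpenEmbedding.isOpen_range ⟨e₀ (closedPoint k), by rw [← hs, Scheme.Hom.comp_apply]⟩
  let r₀ : Spec (CommRingCat.of R) ⟶ S₀ := IsOpenImmersion.lift j σ hrange
  have hr₀ : r₀ ≫ j = σ := IsOpenImmersion.lift_fac _ _ _
  let φ : Polynomial k →+* R := (Spec.preimage (r₀ ≫ τ)).hom
  have hφ : Spec.map (CommRingCat.ofHom φ) = r₀ ≫ τ := Spec.map_preimage _
  have hr₀cl : r₀ (closedPoint R) = e₀ (closedPoint k) := by
    apply j.isOpenEmbedding.injective
    rw [← Scheme.Hom.comp_apply, hr₀, hσcl, ← hs, Scheme.Hom.comp_apply]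
  have hα : Spec.map (CommRingCat.ofHom ((residue R).comp (φ.comp Polynomial.C))) =
      Spec.map (CommRingCat.ofHom (residue R)) ≫ σ ≫ pS := by
    rw [← hr₀, Category.assoc, hjp, ← Category.assoc r₀, ← hφ]
    simp only [← Spec.map_comp, ← CommRingCat.ofHom_comp]
  have hflat : Flat r₀ := by
    refine flat_of_comp_open r₀ j ?_
    rw [hr₀]
    have h1 : Flat (S.fromSpecStalk s) := Fdesc.FlatStalk.flat_fromSpecStalk S s
    have h2 : Flat (Spec.map a) := by
      rw [Flat.SpecMap_iff]
      change (algebraMap ↑(S.presheaf.stalk s) R).Flat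
      rw [RingHom.flat_algebraMap_iff]
      exact (Hensel.Lazard.faithfullyFlat_of_isStrictHenselization ↑(S.presheaf.stalk s) R).toFlat
    infer_instance
  -- the residue field of `S` at `s` is `k`
  let β : CommRingCat.of k ⟶ S.residueField s := Spec.preimage (S.fromSpecResidueField s ≫ pS)
  have hβ : Spec.map β = S.fromSpecResidueField s ≫ pS := Spec.map_preimage _
  have hes : (e₀ ≫ j) ≫ pS = 𝟙 _ := by
    rw [Category.assoc, hjp, ← Category.assoc, he₀, ← Spec.map_comp, ← CommRingCat.ofHom_comp]
    have : (Polynomial.evalRingHom (0 : k)).comp Polynomial.C = RingHom.id k := by ext c; simp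
    rw [this, CommRingCat.ofHom_id, Spec.map_id]
  have hβs : Function.Surjective β.hom := surjective_of_section pS (e₀ ≫ j) hes s hs β hβ
  -- comparison of the two maps
  let ρ : S.residueField s ⟶ CommRingCat.of (ResidueField R) :=
    CommRingCat.ofHom (ResidueField.map (algebraMap ↑(S.presheaf.stalk s) R))
  have hres : a ≫ CommRingCat.ofHom (residue R) = S.residue s ≫ ρ := by
    ext x
    rfl
  have hσρ : Spec.map (CommRingCat.ofHom (residue R)) ≫ σ = Spec.map ρ ≫ S.fromSpecResidueField s := by
    rw [Scheme.fromSpecResidueField, ← Category.assoc, ← Category.assoc, ← Spec.map_comp, ← Spec.map_comp, hres]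
  have hρ : CommRingCat.ofHom ((residue R).comp (φ.comp Polynomial.C)) = β ≫ ρ := by
    apply Spec.map_injective
    rw [hα, ← Category.assoc, hσρ, Category.assoc, ← hβ, ← Spec.map_comp]
  have hint : Function.Surjective ρ.hom := by
    have hsep : IsSepClosure (ResidueField ↑(S.presheaf.stalk s)) (ResidueField R) :=
      Hensel.IsStrictHenselization.isSepClosure
    have halg : Algebra.IsSeparable (ResidueField ↑(S.presheaf.stalk s)) (ResidueField R) := hsep.separable
    have hβb : Function.Bijective β.hom := ⟨β.hom.injective, hβs⟩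
    have hac : IsAlgClosed (ResidueField ↑(S.presheaf.stalk s)) :=
      IsAlgClosed.of_ringEquiv k _ (RingEquiv.ofBijective β.hom hβb)
    have hint' : Algebra.IsIntegral (ResidueField ↑(S.presheaf.stalk s)) (ResidueField R) := inferInstance
    exact (IsAlgClosed.algebraMap_bijective_of_isIntegral
      (k := ResidueField ↑(S.presheaf.stalk s)) (K := ResidueField R)).2
  have hκ : Function.Surjective ((residue R).comp (φ.comp Polynomial.C)) := by
    have h1 : (residue R).comp (φ.comp Polynomial.C) = ρ.hom.comp β.hom := congrArg CommRingCat.Hom.hom hρ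
    rw [h1]
    exact hint.comp hβs
  refine ⟨r₀, φ, hr₀, hφ.symm, hr₀cl, hκ, ?_, ?_, ?_⟩
  · have h1 : (Spec.map (CommRingCat.ofHom φ)) (closedPoint R) =
        (Spec.map (CommRingCat.ofHom (Polynomial.evalRingHom (0 : k)))) (closedPoint k) := by
      rw [hφ, ← he₀, Scheme.Hom.comp_apply, Scheme.Hom.comp_apply, hr₀cl]
    have h2 : (Polynomial.X : Polynomial k) ∈
        ((Spec.map (CommRingCat.ofHom (Polynomial.evalRingHom (0 : k)))) (closedPoint k)).asIdeal := by
      change Polynomial.evalRingHom (0 : k) Polynomial.X ∈ maximalIdeal k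
      simp
    rw [← h1] at h2
    exact h2
  · intro h0
    have h1 : Flat (Spec.map (CommRingCat.ofHom φ)) := by rw [hφ]; infer_instance
    rw [Flat.SpecMap_iff] at h1
    change φ.Flat at h1
    algebraize [φ]
    have h3 : Module.Flat (Polynomial k) R := h1
    have h4 : (Polynomial.X : Polynomial k) ∈ nonZeroDivisors (Polynomial k) :=
      mem_nonZeroDivisors_of_ne_zero Polynomial.X_ne_zero
    have h6 : algebraMap (Polynomial k) R Polynomial.X = 0 := h0
    have h7 := (Module.Flat.isSMulRegular_of_nonZeroDivisors (M := R) h4)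
    have h8 : (Polynomial.X : Polynomial k) • (1 : R) = (Polynomial.X : Polynomial k) • (0 : R) := by
      rw [Algebra.smul_def, Algebra.smul_def, h6, zero_mul, zero_mul]
    exact one_ne_zero (h7 h8)
  · have h1 : Mono ((Spec.map (CommRingCat.ofHom (residue R)) ≫ r₀) ≫ j) := by
      rw [Category.assoc, hr₀, hσρ]
      have h3 : IsClosedImmersion (Spec.map ρ) := IsClosedImmersion.spec_of_surjective _ hint
      infer_instance
    exact mono_of_mono _ j

end Groth.Agent.Vancyc.H588.AsmMap
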