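import Groth.Prelude.Def_VanCyc
import Groth.Agent.Lefpen.H714.EulerEt
import Groth.Agent.Vancyc.H578.Count

/-!
# The assembly of S4015: definitions and the statements of the inputs

* `psiSt R Ω f ℓ ξ q`: the stalk at `ξ` of the nearby cycles `ψ^q (Z/ℓ)`; `chiPsi` its real valued Euler characteristic;
* `FamData g`: a compactification over `𝔸^1` of `g : 𝔸^{n+1} ⟶ 𝔸^1`, smooth at infinity;
* `FamE1 k ℓ n N`: such compactifications exist for all `g` with top form `∑ X_i ^ N`, and the Euler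
  characteristics of their geometric generic fibres only depend on `N`;
* `E4`: the Euler characteristic of the vanishing cycles of a proper scheme over a strictly henselian
  discrete valuation ring, smooth outside a finite set;
* `PsiEt`: the stalks of the nearby cycles are local for the etale topology.
-/

set_option autoImplicit false

universe u

open CategoryTheory CategoryTheory.Limits AlgebraicGeometry

namespace Groth.Agent.Vancyc.H588.AsmDefs

open Groth.Agent.Lefpen.H714.EulerEt Groth.Agent.Lefpen.H714.EulerAlg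
open Groth.Agent.Vancyc.H578.Count Groth.Agent.Vancyc.H578.MilnorAff

/-- The stalk at `ξ` of the nearby cycles `ψ^q (Z/ℓ)`. -/
noncomputable abbrev psiSt (R : Type u) [CommRing R] [IsLocalRing R] (Ω : Type u) [Field Ω] [Algebra R Ω]
    {X : Scheme.{u}} (f : X ⟶ Spec (CommRingCat.of R)) (ℓ : ℕ) {Ω' : Type u} [Field Ω'] [IsSepClosed Ω']
    (ξ : Spec (CommRingCat.of Ω') ⟶ VanCyc.spFib R f) (q : ℕ) : AddCommGrpCat.{u + 1} :=
  (EtCoh.stalk ξ).obj (VanCyc.psi R Ω f q ((EtCoh.pull (VanCyc.jA R f Ω)).obj (EtCoh.const X (ZMod ℓ))))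

/-- The real valued Euler characteristic of the stalks of nearby cycles. -/
noncomputable def chiPsi (R : Type u) [CommRing R] [IsLocalRing R] (Ω : Type u) [Field Ω] [Algebra R Ω]
    {X : Scheme.{u}} (f : X ⟶ Spec (CommRingCat.of R)) (ℓ : ℕ) {Ω' : Type u} [Field Ω'] [IsSepClosed Ω']
    (ξ : Spec (CommRingCat.of Ω') ⟶ VanCyc.spFib R f) : ℝ :=
  chi (fun q => ↥(psiSt R Ω f ℓ ξ q))

/-- A compactification over the affine line of the map `g : 𝔸^{n+1} ⟶ 𝔸^1`. -/
structure FamData {k : Type u} [Field k] {n : ℕ} (g : MvPolynomial (Fin (n + 1)) k) where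
  /-- the total space -/
  Y : Scheme.{u}
  /-- the boundary -/
  Z : Scheme.{u}
  /-- the family -/
  G : Y ⟶ Spec (CommRingCat.of (Polynomial k))
  /-- the inclusion of the boundary -/
  i : Z ⟶ Y
  /-- the affine part -/
  v : Spec (CommRingCat.of (MvPolynomial (Fin (n + 1)) k)) ⟶ Y
  isProper : IsProper G
  isClosedImmersion : IsClosedImmersion i
  isOpenImmersion : IsOpenImmersion v
  range_v : Set.range v = (Set.range i)ᶜ
  v_G : v ≫ G = toLine (k := k) g
  smooth_bdry : Smooth (i ≫ G)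
  /-- the smooth part -/
  W : Y.Opens
  smooth_W : Smooth (W.ι ≫ G)
  mem_W : ∀ y : Y, y ∉ W → ∃ a ∈ crit g, y = v (pt a)
  dim_fiber : ∀ (κ : Type u) [Field κ] (ψ : Polynomial k →+* κ),
    topologicalKrullDim ↥(pullback G (Spec.map (CommRingCat.ofHom ψ))) ≤ n

attribute [instance] FamData.isProper FamData.isClosedImmersion FamData.isOpenImmersion FamData.smooth_bdry
  FamData.smooth_W

/-- **FAM + E1**: compactifications exist and the Euler characteristics of the geometric generic fibres only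
depend on the degree. -/
def FamE1 (k : Type u) [Field k] (ℓ n N : ℕ) : Prop :=
  ∃ c : ℝ, ∀ g : MvPolynomial (Fin (n + 1)) k, (g - ∑ i, MvPolynomial.X i ^ N).totalDegree < N →
    ∃ D : FamData g, ∀ (Ω : Type u) [Field Ω] [IsSepClosed Ω] (ψ : Polynomial k →+* Ω), Function.Injective ψ →
      ec ℓ (pullback D.G (Spec.map (CommRingCat.ofHom ψ))) -
        ec ℓ (pullback (D.i ≫ D.G) (Spec.map (CommRingCat.ofHom ψ))) = c

/-- **E4**: the Euler characteristic of vanishing cycles. -/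
def E4 : Prop :=
  ∀ (R K Ω : Type u) [CommRing R] [IsDomain R] [IsDiscreteValuationRing R]
    (_ : EtCoh.IsStrictlyHenselianLocalRing R) [Field K] [Algebra R K] [IsFractionRing R K] [Field Ω] [Algebra K Ω]
    [IsSepClosure K Ω] [Algebra R Ω] [IsScalarTower R K Ω] (ℓ : ℕ) (_ : ℓ.Prime) (_ : IsUnit (ℓ : R))
    {X : Scheme.{u}} (f : X ⟶ Spec (CommRingCat.of R)) [IsProper f] [LocallyOfFinitePresentation f]
    (n : ℕ) (_ : topologicalKrullDim ↥(VanCyc.fib R f Ω) ≤ n) (_ : topologicalKrullDim ↥(VanCyc.spFib R f) ≤ n)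
    (V : X.Opens) (_ : Smooth (V.ι ≫ f)) (Sig : Finset (VanCyc.spFib R f))
    (_ : ∀ x ∈ Sig, IsClosed ({x} : Set (VanCyc.spFib R f)))
    (_ : ∀ x : VanCyc.spFib R f, x ∉ Sig → VanCyc.icl R f x ∈ V)
    (Ω' : VanCyc.spFib R f → Type u) [∀ x, Field (Ω' x)] [∀ x, IsSepClosed (Ω' x)]
    (ξ : ∀ x : VanCyc.spFib R f, Spec (CommRingCat.of (Ω' x)) ⟶ VanCyc.spFib R f) (_ : ∀ x, ξ x default = x),
    (∀ x ∈ Sig, (∀ q, Finite ↥(psiSt R Ω f ℓ (ξ x) q)) ∧ ∀ q, 2 * n < q → Subsingleton ↥(psiSt R Ω f ℓ (ξ x) q)) ∧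
    ec ℓ (VanCyc.fib R f Ω) - ec ℓ (VanCyc.spFib R f) = ∑ x ∈ Sig, (chiPsi R Ω f ℓ (ξ x) - Real.log ℓ)

/-- **PsiEt**: the stalks of nearby cycles are etale local, and do not depend on the geometric point. -/
def PsiEt : Prop :=
  ∀ (R Ω : Type u) [CommRing R] [IsDomain R] [IsDiscreteValuationRing R]
    (_ : EtCoh.IsStrictlyHenselianLocalRing R) [Field Ω] [IsSepClosed Ω] [Algebra R Ω]
    (ℓ : ℕ) (_ : ℓ.Prime) (_ : IsUnit (ℓ : R))
    {W X : Scheme.{u}} (fW : W ⟶ Spec (CommRingCat.of R)) (f : X ⟶ Spec (CommRingCat.of R))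
    [LocallyOfFiniteType f] (p : W ⟶ X) [Etale p] (_ : p ≫ f = fW)
    {Ω₁ : Type u} [Field Ω₁] [IsSepClosed Ω₁] (ξ₁ : Spec (CommRingCat.of Ω₁) ⟶ VanCyc.spFib R fW)
    {Ω₂ : Type u} [Field Ω₂] [IsSepClosed Ω₂] (ξ₂ : Spec (CommRingCat.of Ω₂) ⟶ VanCyc.spFib R f)
    (_ : p (VanCyc.icl R fW (ξ₁ default)) = VanCyc.icl R f (ξ₂ default)) (q : ℕ),
    Nonempty (↥(psiSt R Ω fW ℓ ξ₁ q) ≃+ ↥(psiSt R Ω f ℓ ξ₂ q))

end Groth.Agent.Vancyc.H588.AsmDefs
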