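import Groth.Agent.S3110
import Groth.Agent.S3111
import Groth.Agent.S3112
import Groth.Agent.Sga5.HcConst2
import Groth.Agent.Sga5.ProjCoh
import Groth.Agent.Sga4B.TateConst
import Groth.Agent.Sga4B.HTools
import Groth.Agent.EtpbcB.GammaRpush
import Groth.Agent.Lefpen.H714.EulerEt

/-!
# The compactly supported Euler characteristic of affine space

`main`: for `P` proper over an algebraically closed field `k` and `j : V ⟶ P` an open immersion with
`V ≅ A^m`, `e(P, j_! ℤ/ℓ) = log ℓ`.
-/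

set_option autoImplicit false
universe u v
open CategoryTheory CategoryTheory.Limits AlgebraicGeometry Opposite

namespace Groth.Agent.Vancyc.H588.AffCpt

open Groth.Agent.Lefpen.H714 EulerAlg EulerEt

theorem card_dual (K V : Type*) [Field K] [AddCommGroup V] [Module K V] [Finite K] [Finite V] :
    Nat.card (Module.Dual K V) = Nat.card V := by
  have h2 : Module.Finite K V := Module.Finite.of_finite
  rw [Module.natCard_eq_pow_finrank (K := K) (V := V),
    Module.natCard_eq_pow_finrank (K := K) (V := Module.Dual K V), Subspace.dual_finrank_eq]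

/-- A finite abelian group killed by the prime `ℓ` with `ℓ` homomorphisms to `ℤ/ℓ` has order `ℓ`. -/
theorem card_of_card_dual {A : Type v} [AddCommGroup A] [Finite A] (ℓ : ℕ) [Fact ℓ.Prime]
    (h : ∀ a : A, ℓ • a = 0) (h' : Nat.card (A →+ ZMod ℓ) = ℓ) : Nat.card A = ℓ := by
  let : Module (ZMod ℓ) A := AddCommGroup.zmodModule h
  have e : (A →+ ZMod ℓ) ≃ (A →ₗ[ZMod ℓ] ZMod ℓ) :=
    (AddMonoidHom.toZModLinearMapEquiv ℓ).toEquiv
  exact (card_dual (ZMod ℓ) A).symm.trans ((Nat.card_congr e).symm.trans h')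

variable (k : Type u) [Field k] [IsAlgClosed k] {P V : Scheme.{u}} (a : P ⟶ Spec (CommRingCat.of k))
  [IsProper a] (j : V ⟶ P) [IsOpenImmersion j]

/-- The compactly supported Euler characteristic of affine space. -/
theorem main (m : ℕ) (φ : V ≅ Spec (CommRingCat.of (MvPolynomial (Fin m) k)))
    (hφ : φ.hom ≫ Spec.map (CommRingCat.ofHom (MvPolynomial.C : k →+* MvPolynomial (Fin m) k)) =
      j ≫ a) (ℓ : ℕ) [Fact ℓ.Prime] (hℓ : (ℓ : k) ≠ 0) :
    GoodE P ((EtShriek.extZero j).obj (EtCoh.const V (ZMod ℓ))) ∧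
      e P ((EtShriek.extZero j).obj (EtCoh.const V (ZMod ℓ))) = Real.log ℓ := by
  have hℓp : ℓ.Prime := Fact.out
  have : IsAffine V := .of_isIso φ.hom
  have hsm : SmoothOfRelativeDimension m (j ≫ a) := by
    rw [← hφ]
    have := Groth.Agent.Sga5.ProjSmooth.smooth_chart_toSpec m k
    exact MorphismProperty.RespectsIso.precomp (@SmoothOfRelativeDimension m) φ.hom _ this
  have hfin : ∀ i, Finite (EtCoh.H P ((EtShriek.extZero j).obj (EtCoh.const V (ZMod ℓ))) i) := fun i =>
    Groth.Agent.S3111.result a j ℓ hℓp.pos _ (Etrest.ConstBasic.isConstructible_const V (ZMod ℓ))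
      (Etrest.ConstBasic.killedBy_const V (ZMod ℓ) ℓ (by simp)) i
  have hkill : ∀ i (x : EtCoh.H P ((EtShriek.extZero j).obj (EtCoh.const V (ZMod ℓ))) i), ℓ • x = 0 :=
    fun i => Sga5.HcConst.H_nsmul_eq_zero ℓ _ (Sga4B.ShriekTools.killedBy_extZero j ℓ _
      (Etrest.ConstBasic.killedBy_const V (ZMod ℓ) ℓ (by simp))) i
  obtain ⟨t⟩ := Sga4B.TateConst.nonempty_iso k ℓ hℓ (j ≫ a) m
  -- cohomology of `V`
  have hV : ∀ q, 0 < q → Subsingleton (EtCoh.H V (EtDual.tate V ℓ m) q) := by
    intro q hq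
    obtain ⟨e1⟩ := Etrest.HConstIso.nonempty_HConst φ (ZMod ℓ) q
    have h1 := Sga5.ProjCoh.subsingleton_H_spec k ℓ hℓ m q hq
    have h2 : Subsingleton (EtCoh.H V (EtCoh.const V (ZMod ℓ)) q) := by
      first
        | exact e1.toEquiv.subsingleton
        | exact e1.symm.toEquiv.subsingleton
    exact Sga4B.HTools.subsingleton_H_of_iso t q h2
  have hV0 : Nonempty (EtCoh.H V (EtDual.tate V ℓ m) 0 ≃+ ZMod ℓ) := by
    have : ConnectedSpace V := by
      have : ConnectedSpace (Spec (CommRingCat.of (MvPolynomial (Fin m) k))) := inferInstance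
      exact (Scheme.homeoOfIso φ).symm.surjective.connectedSpace (Scheme.homeoOfIso φ).symm.continuous
    obtain ⟨e1⟩ := Etrest.SHPoint.nonempty_H0_const V (ZMod ℓ)
    exact ⟨(Sga4B.HTools.HCongr t.symm 0).trans e1⟩
  -- duality
  have hlow : ∀ i, i < 2 * m →
      Subsingleton (EtCoh.H P ((EtShriek.extZero j).obj (EtCoh.const V (ZMod ℓ))) i) := by
    intro i hi
    obtain ⟨e1⟩ := Groth.Agent.S3112.result k a j m ℓ hℓ i hi.le
    have h1 := hV (2 * m - i) (by omega)
    exact Sga5.HcConst.subsingleton_of_hom_zmod ℓ hℓp.ne_zero (hkill i) e1.symm.toEquiv.subsingleton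
  have htop : Nat.card (EtCoh.H P ((EtShriek.extZero j).obj (EtCoh.const V (ZMod ℓ))) (2 * m)) = ℓ := by
    obtain ⟨e1⟩ := Groth.Agent.S3112.result k a j m ℓ hℓ (2 * m) le_rfl
    rw [Nat.sub_self] at e1
    obtain ⟨e2⟩ := hV0
    have := hfin (2 * m)
    refine card_of_card_dual ℓ (hkill _) ?_
    rw [← Nat.card_congr e1.toEquiv, Nat.card_congr e2.toEquiv, Nat.card_zmod]
  have hhigh : ∀ i, 2 * m < i →
      Subsingleton (EtCoh.H P ((EtShriek.extZero j).obj (EtCoh.const V (ZMod ℓ))) i) := by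
    intro i hi
    have h0 : ∀ s : Spec (CommRingCat.of k), topologicalKrullDim ((j ≫ a).fiber s) ≤ m := by
      intro s
      have h1 := Sga5.HcConst.topologicalKrullDim_le k m (j ≫ a)
      refine le_trans ?_ h1
      exact ((j ≫ a).fiberι s).isEmbedding.isInducing.topologicalKrullDim_le
    have h1 := Groth.Agent.S3110.result j a m h0 (EtCoh.const V (ZMod ℓ))
      (Etrest.ConstBasic.isTorsion_of_killedBy hℓp.pos
        (Etrest.ConstBasic.killedBy_const V (ZMod ℓ) ℓ (by simp))) i hi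
    obtain ⟨e1⟩ := Groth.Agent.EtpbcB.GammaRpush.stalk_id_Rpush a
      ((EtShriek.extZero j).obj (EtCoh.const V (ZMod ℓ))) i
    have h2 : IsZero ((EtCoh.stalk (𝟙 (Spec (CommRingCat.of k)))).obj ((EtCoh.Rpush a i).obj
      ((EtShriek.extZero j).obj (EtCoh.const V (ZMod ℓ))))) := Functor.map_isZero _ h1
    have h3 := AddCommGrpCat.subsingleton_of_isZero h2
    first
      | exact e1.toEquiv.subsingleton
      | exact e1.symm.toEquiv.subsingleton
  refine ⟨⟨hfin, 2 * m, hhigh⟩, ?_⟩
  unfold e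
  rw [chi_eq_sum (2 * m) hhigh, Finset.sum_range_succ, Finset.sum_eq_zero]
  · rw [zero_add, pow_mul]
    simp only [lg, htop]
    simp
  · intro i hi
    have := hlow i (Finset.mem_range.1 hi)
    rw [lg_of_subsingleton, mul_zero]

end Groth.Agent.Vancyc.H588.AffCpt
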