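import Groth.Agent.Vancyc.H588.AsmRoof
import Groth.Agent.Vancyc.H578.MorsePt
import Groth.Agent.Etrest.HConstIso

/-!
# The family `g = c + φ(t)` over `R` (assembly of S4015)

`φ : k[t] ⟶ R` bijective on residue fields with `φ t` a nonzero nonunit; `shift φ c : t ↦ φ t + c`.
-/

set_option autoImplicit false

universe u

open CategoryTheory CategoryTheory.Limits AlgebraicGeometry IsLocalRing MvPolynomial

namespace Groth.Agent.Vancyc.H588.AsmPts

open Groth.Agent.Vancyc.H588.AsmDefs Groth.Agent.Vancyc.H588.AsmRoof Groth.Agent.Lefpen.H714.EulerEt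
open Groth.Agent.Vancyc.H578.Count Groth.Agent.Vancyc.H578.MilnorAff Groth.Agent.Vancyc.H578.MorsePt

/-- The mod `ℓ` Euler characteristic of isomorphic schemes. -/
theorem ec_iso {X Y : Scheme.{u}} (e : X ≅ Y) (ℓ : ℕ) : ec ℓ X = ec ℓ Y := e_congr fun q => by
  obtain ⟨e1⟩ := Etrest.HConstIso.nonempty_HConst e (ZMod ℓ) q
  first
    | exact ⟨e1.toEquiv⟩
    | exact ⟨e1.symm.toEquiv⟩

/-- Successive base changes. -/
theorem nonempty_iso_bc {X S T T' : Scheme.{u}} (f : X ⟶ S) (σ : T ⟶ S) (t : T' ⟶ T) :
    Nonempty (pullback (pullback.snd f σ) t ≅ pullback f (t ≫ σ)) :=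
  ⟨((IsPullback.of_hasPullback (pullback.snd f σ) t).paste_horiz (IsPullback.of_hasPullback f σ)).isoPullback⟩

theorem ec_bc {X S T T' : Scheme.{u}} (f : X ⟶ S) (σ : T ⟶ S) (t : T' ⟶ T) (ℓ : ℕ) :
    ec ℓ (pullback (pullback.snd f σ) t) = ec ℓ (pullback f (t ≫ σ)) :=
  ec_iso (nonempty_iso_bc f σ t).some ℓ

section Shift

variable {k : Type u} [Field k] {R : Type u} [CommRing R] (φ : Polynomial k →+* R) (c : k)

/-- The map `t ↦ φ t + c`. -/
noncomputable def shift : Polynomial k →+* R :=
  φ.comp (Polynomial.aeval (Polynomial.X + Polynomial.C c) : Polynomial k →ₐ[k] Polynomial k).toRingHom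

theorem shift_comp_C : (shift φ c).comp Polynomial.C = φ.comp Polynomial.C := by
  ext x
  simp [shift]

theorem shift_X_sub_C : shift φ c (Polynomial.X - Polynomial.C c) = φ Polynomial.X := by
  simp [shift]

theorem shift_zero : shift φ 0 = φ := by
  apply Polynomial.ringHom_ext
  · intro x; simp [shift]
  · simp [shift]

theorem injective_of_ne_zero {A : Type u} [CommRing A] [IsDomain A] (θ : Polynomial k →+* A)
    {B : Type u} [CommRing B] [IsLocalRing B] (π : Polynomial k →+* B) (ι : B →+* A) (hθ : θ = ι.comp π)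
    (h1 : π (Polynomial.X - Polynomial.C c) ∈ maximalIdeal B) (h2 : θ (Polynomial.X - Polynomial.C c) ≠ 0) :
    Function.Injective θ := by
  rw [injective_iff_map_eq_zero]
  intro p hp
  by_contra hp0
  -- write `p = (X - c)^m q` with `q(c) ≠ 0`
  obtain ⟨q, hq, hq0⟩ := Polynomial.exists_eq_pow_rootMultiplicity_mul_and_not_dvd p hp0 c
  rw [hq, map_mul, map_pow] at hp
  have h3 : θ q ≠ 0 := by
    intro h4
    have h5 : IsUnit (π q) := by
      by_contra h6
      have h7 : π q ∈ maximalIdeal B := (mem_maximalIdeal _).2 h6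
      have h8 : q = Polynomial.C (q.eval c) + (Polynomial.X - Polynomial.C c) * (q /ₘ (Polynomial.X - Polynomial.C c)) := by
        have h9 := Polynomial.modByMonic_add_div q (Polynomial.X - Polynomial.C c)
        rw [Polynomial.modByMonic_X_sub_C_eq_C_eval] at h9
        exact h9.symm
      have h10 : q.eval c ≠ 0 := fun h => hq0 (Polynomial.dvd_iff_isRoot.2 h)
      have h11 : π (Polynomial.C (q.eval c)) ∈ maximalIdeal B := by
        have h12 : π (Polynomial.C (q.eval c)) = π q - π (Polynomial.X - Polynomial.C c) *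
            π (q /ₘ (Polynomial.X - Polynomial.C c)) := by
          rw [← map_mul, ← map_sub]
          congr 1
          exact eq_sub_of_add_eq h8.symm
        rw [h12]
        exact Ideal.sub_mem _ h7 (Ideal.mul_mem_right _ _ h1)
      have h13 : IsUnit (π (Polynomial.C (q.eval c))) :=
        ((Ne.isUnit h10).map Polynomial.C).map π
      exact (mem_maximalIdeal _).1 h11 h13
    have h6 : IsUnit (θ q) := by
      rw [hθ]
      exact h5.map ι
    exact h6.ne_zero h4
  rcases mul_eq_zero.1 hp with h4 | h4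
  · exact pow_ne_zero _ h2 h4
  · exact h3 h4

end Shift

section Point

variable {k : Type u} [Field k] {n : ℕ} (g : MvPolynomial (Fin (n + 1)) k) {R : Type u} [CommRing R]
  [IsLocalRing R] (φ : Polynomial k →+* R) (hφ : φ Polynomial.X ∈ maximalIdeal R)

include hφ in
theorem exists_sp (a : Fin (n + 1) → k) :
    ∃ x : ↥(VanCyc.spFib R (fam g (shift φ (eval a g)))),
      (VanCyc.icl R (fam g (shift φ (eval a g))) ≫ famA g (shift φ (eval a g))) x = pt a :=
  exists_pt g (shift φ (eval a g)) a (by rw [shift_X_sub_C]; exact hφ)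

/-- The Euler characteristic of the nearby cycles at the point over `a` of the family
`g = g(a) + φ(t)`. -/
noncomputable def chiLoc (Ω : Type u) [Field Ω] [Algebra R Ω] (ℓ : ℕ) (a : Fin (n + 1) → k) : ℝ :=
  have h := exists_geomPt (exists_sp g φ hφ a).choose
  letI := h.choose_spec.choose
  letI := h.choose_spec.choose_spec.choose
  chiPsi R Ω (fam g (shift φ (eval a g))) ℓ h.choose_spec.choose_spec.choose_spec.choose

end Point

end Groth.Agent.Vancyc.H588.AsmPts
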