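import Groth.Agent.Vancyc.H588.AsmDefs
import Mathlib.AlgebraicGeometry.Morphisms.Etale
import Mathlib.AlgebraicGeometry.Morphisms.UniversallyInjective
import Mathlib.AlgebraicGeometry.Morphisms.FormallyUnramified

/-!
# Transport of the stalks of nearby cycles along an etale roof (assembly of S4015)
-/

set_option autoImplicit false

universe u

open CategoryTheory CategoryTheory.Limits AlgebraicGeometry IsLocalRing

namespace Groth.Agent.Vancyc.H588.AsmRoof

open Groth.Agent.Vancyc.H588.AsmDefs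

theorem isPullback_sp {R : Type u} [CommRing R] [IsLocalRing R] {X S : Scheme.{u}} (f : X ⟶ S)
    (σ : Spec (CommRingCat.of R) ⟶ S) :
    IsPullback (VanCyc.icl R (pullback.snd f σ) ≫ pullback.fst f σ) (VanCyc.spStr R (pullback.snd f σ)) f
      (Spec.map (CommRingCat.ofHom (residue R)) ≫ σ) :=
  (IsPullback.of_hasPullback (pullback.snd f σ) (VanCyc.toSk R)).paste_horiz (IsPullback.of_hasPullback f σ)

/-- The special fibre of a base change is injective into the total space if `Spec κ ⟶ S` is a monomorphism. -/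
theorem injective_of_mono {R : Type u} [CommRing R] [IsLocalRing R] {X S : Scheme.{u}} (f : X ⟶ S)
    (σ : Spec (CommRingCat.of R) ⟶ S) (hσ : Mono (Spec.map (CommRingCat.ofHom (residue R)) ≫ σ)) :
    Function.Injective (VanCyc.icl R (pullback.snd f σ) ≫ pullback.fst f σ) := by
  have h2 : Mono (VanCyc.icl R (pullback.snd f σ) ≫ pullback.fst f σ) :=
    MorphismProperty.of_isPullback (P := MorphismProperty.monomorphisms Scheme.{u}) (isPullback_sp f σ).flip hσ
  exact (VanCyc.icl R (pullback.snd f σ) ≫ pullback.fst f σ).injective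

/-- The pull-back of `W ⟶ X` etale over `S₀ ⊆ S`. -/
theorem etale_left {T S₀ S W X : Scheme.{u}} (j : S₀ ⟶ S) [Mono j] (f : X ⟶ S) (p : W ⟶ X) [Etale p] (r : W ⟶ S₀)
    (h : p ≫ f = r ≫ j) (r₀ : T ⟶ S₀) (σ : T ⟶ S) (hσ : r₀ ≫ j = σ) :
    Etale (pullback.map r r₀ f σ p (𝟙 _) j h.symm (by rw [hσ, Category.id_comp])) := by
  subst hσ
  have h1 : IsPullback (pullback.fst r r₀) (pullback.snd r r₀) (p ≫ f) (r₀ ≫ j) := by
    rw [h]
    refine ⟨⟨by rw [← Category.assoc, pullback.condition, Category.assoc]⟩,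
      ⟨PullbackCone.IsLimit.mk _ (fun s => pullback.lift s.fst s.snd ?_) (fun s => pullback.lift_fst _ _ _)
        (fun s => pullback.lift_snd _ _ _) (fun s m h2 h3 => ?_)⟩⟩
    · rw [← cancel_mono j, Category.assoc, Category.assoc]
      exact s.condition
    · apply pullback.hom_ext
      · exact h2.trans (pullback.lift_fst _ _ _).symm
      · exact h3.trans (pullback.lift_snd _ _ _).symm
  have h2 : IsPullback (pullback.map r r₀ f (r₀ ≫ j) p (𝟙 _) j h.symm (by rw [Category.id_comp]))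
      (pullback.fst r r₀) (pullback.fst f (r₀ ≫ j)) p := by
    refine IsPullback.of_right ?_ (pullback.lift_fst _ _ _) (IsPullback.of_hasPullback f (r₀ ≫ j)).flip
    have h3 : pullback.map r r₀ f (r₀ ≫ j) p (𝟙 _) j h.symm (by rw [Category.id_comp]) ≫
        pullback.snd f (r₀ ≫ j) = pullback.snd r r₀ := (pullback.lift_snd _ _ _).trans (Category.comp_id _)
    rw [h3]
    exact h1.flip
  exact MorphismProperty.of_isPullback (P := @Etale) h2.flip inferInstance

/-- The pull-back of `W ⟶ A` etale over `S₀ ⟶ B` etale. -/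
theorem etale_right {T S₀ B W A : Scheme.{u}} (τ : S₀ ⟶ B) [Etale τ] (g : A ⟶ B) (q : W ⟶ A) [Etale q] (r : W ⟶ S₀)
    (h : r ≫ τ = q ≫ g) (r₀ : T ⟶ S₀) (ψ : T ⟶ B) (hψ : r₀ ≫ τ = ψ) :
    Etale (pullback.map r r₀ g ψ q (𝟙 _) τ h (by rw [hψ, Category.id_comp])) := by
  subst hψ
  have h1 : IsOpenImmersion (pullback.mapDesc r r₀ τ) :=
    MorphismProperty.of_isPullback (P := @IsOpenImmersion) (pullback_map_diagonal_isPullback r r₀ τ) inferInstance
  have h2 : IsPullback (pullback.map (r ≫ τ) (r₀ ≫ τ) g (r₀ ≫ τ) q (𝟙 _) (𝟙 _) (by rw [Category.comp_id, h])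
        (by rw [Category.id_comp, Category.comp_id])) (pullback.fst (r ≫ τ) (r₀ ≫ τ)) (pullback.fst g (r₀ ≫ τ)) q := by
    refine IsPullback.of_right ?_ (pullback.lift_fst _ _ _) (IsPullback.of_hasPullback g (r₀ ≫ τ)).flip
    have h3 : pullback.map (r ≫ τ) (r₀ ≫ τ) g (r₀ ≫ τ) q (𝟙 _) (𝟙 _) (by rw [Category.comp_id, h])
        (by rw [Category.id_comp, Category.comp_id]) ≫ pullback.snd g (r₀ ≫ τ) = pullback.snd (r ≫ τ) (r₀ ≫ τ) :=
      (pullback.lift_snd _ _ _).trans (Category.comp_id _)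
    rw [h3, ← h]
    exact (IsPullback.of_hasPullback (r ≫ τ) (r₀ ≫ τ)).flip
  have h3 : pullback.map r r₀ g (r₀ ≫ τ) q (𝟙 _) τ h (by rw [Category.id_comp]) =
      pullback.mapDesc r r₀ τ ≫ pullback.map (r ≫ τ) (r₀ ≫ τ) g (r₀ ≫ τ) q (𝟙 _) (𝟙 _) (by rw [Category.comp_id, h])
        (by rw [Category.id_comp, Category.comp_id]) := by
    apply pullback.hom_ext
    · rw [Category.assoc, pullback.lift_fst, pullback.lift_fst, ← Category.assoc, pullback.lift_fst, Category.comp_id]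
    · rw [Category.assoc, pullback.lift_snd, pullback.lift_snd, ← Category.assoc, pullback.lift_snd, Category.comp_id,
        Category.comp_id]
  rw [h3]
  have h4 : Etale (pullback.map (r ≫ τ) (r₀ ≫ τ) g (r₀ ≫ τ) q (𝟙 _) (𝟙 _) (by rw [Category.comp_id, h])
        (by rw [Category.id_comp, Category.comp_id])) :=
    MorphismProperty.of_isPullback (P := @Etale) h2.flip inferInstance
  infer_instance

/-- A geometric point centred at a given point. -/
theorem exists_geomPt {X : Scheme.{u}} (x : X) :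
    ∃ (Ω : Type u) (_ : Field Ω) (_ : IsSepClosed Ω) (ξ : Spec (CommRingCat.of Ω) ⟶ X), ξ default = x := by
  let ξ : Spec (CommRingCat.of (SeparableClosure (X.residueField x))) ⟶ X :=
    Spec.map (CommRingCat.ofHom (algebraMap (X.residueField x) (SeparableClosure (X.residueField x)))) ≫
      X.fromSpecResidueField x
  refine ⟨SeparableClosure (X.residueField x), inferInstance, inferInstance, ξ, ?_⟩
  rw [Scheme.Hom.comp_apply, Scheme.fromSpecResidueField_apply]

/-- **Transport of the stalks of nearby cycles along an etale roof.** -/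
theorem roof (hP : PsiEt.{u}) (R Ω : Type u) [CommRing R] [IsDomain R] [IsDiscreteValuationRing R]
    (hR : EtCoh.IsStrictlyHenselianLocalRing R) [Field Ω] [IsSepClosed Ω] [Algebra R Ω]
    (ℓ : ℕ) (hℓ : ℓ.Prime) (hℓR : IsUnit (ℓ : R))
    {S S₀ X W A B : Scheme.{u}} (j : S₀ ⟶ S) [Mono j] (τ : S₀ ⟶ B) [Etale τ] (f : X ⟶ S) [LocallyOfFiniteType f]
    (g : A ⟶ B) [LocallyOfFiniteType g] (p : W ⟶ X) [Etale p] (q : W ⟶ A) [Etale q] (r : W ⟶ S₀)
    (h1 : p ≫ f = r ≫ j) (h2 : r ≫ τ = q ≫ g)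
    (r₀ : Spec (CommRingCat.of R) ⟶ S₀) (σ : Spec (CommRingCat.of R) ⟶ S) (hσ : r₀ ≫ j = σ)
    (ψ : Spec (CommRingCat.of R) ⟶ B) (hψ : r₀ ≫ τ = ψ)
    (w : W) (hw : r w = r₀ (closedPoint R))
    (hm₀ : Mono (Spec.map (CommRingCat.ofHom (residue R)) ≫ r₀))
    (hm₁ : Mono (Spec.map (CommRingCat.ofHom (residue R)) ≫ ψ))
    {Ω₁ : Type u} [Field Ω₁] [IsSepClosed Ω₁] (ξ₁ : Spec (CommRingCat.of Ω₁) ⟶ VanCyc.spFib R (pullback.snd f σ))
    (hξ₁ : pullback.fst f σ (VanCyc.icl R (pullback.snd f σ) (ξ₁ default)) = p w)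
    {Ω₂ : Type u} [Field Ω₂] [IsSepClosed Ω₂] (ξ₂ : Spec (CommRingCat.of Ω₂) ⟶ VanCyc.spFib R (pullback.snd g ψ))
    (hξ₂ : pullback.fst g ψ (VanCyc.icl R (pullback.snd g ψ) (ξ₂ default)) = q w) (i : ℕ) :
    Nonempty (↥(psiSt R Ω (pullback.snd f σ) ℓ ξ₁ i) ≃+ ↥(psiSt R Ω (pullback.snd g ψ) ℓ ξ₂ i)) := by
  let fW : pullback r r₀ ⟶ Spec (CommRingCat.of R) := pullback.snd r r₀
  let pR : pullback r r₀ ⟶ pullback f σ := pullback.map r r₀ f σ p (𝟙 _) j h1.symm (by rw [hσ, Category.id_comp])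
  let qR : pullback r r₀ ⟶ pullback g ψ := pullback.map r r₀ g ψ q (𝟙 _) τ h2 (by rw [hψ, Category.id_comp])
  have hpR : Etale pR := etale_left j f p r h1 r₀ σ hσ
  have hqR : Etale qR := etale_right τ g q r h2 r₀ ψ hψ
  have epR : pR ≫ pullback.snd f σ = fW := (pullback.lift_snd _ _ _).trans (Category.comp_id _)
  have eqR : qR ≫ pullback.snd g ψ = fW := (pullback.lift_snd _ _ _).trans (Category.comp_id _)
  have epR1 : pR ≫ pullback.fst f σ = pullback.fst r r₀ ≫ p := pullback.lift_fst _ _ _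
  have eqR1 : qR ≫ pullback.fst g ψ = pullback.fst r r₀ ≫ q := pullback.lift_fst _ _ _
  -- a point of the special fibre of `W_R` over `w`
  obtain ⟨y, hy1, hy2⟩ := Scheme.Pullback.exists_preimage_pullback (f := r) (g := r₀) w (closedPoint R) hw
  have hcl : (VanCyc.toSk R) default = closedPoint R := by
    have hl : IsLocalHom (CommRingCat.ofHom (residue R)).hom := inferInstanceAs (IsLocalHom (residue R))
    have h3 : (Spec.map (CommRingCat.ofHom (residue R))) (closedPoint (ResidueField R)) = closedPoint R :=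
      Spec_closedPoint
    rw [← h3]
    congr 1
    exact Subsingleton.elim (α := PrimeSpectrum (ResidueField R)) _ _
  obtain ⟨z, hz1, -⟩ := Scheme.Pullback.exists_preimage_pullback (f := fW) (g := VanCyc.toSk R) y default
    (hy2.trans hcl.symm)
  have hz : (VanCyc.icl R fW) z = y := hz1
  obtain ⟨Ω₃, _, _, ζ, hζ⟩ := exists_geomPt z
  have hm₁' : Mono (Spec.map (CommRingCat.ofHom (residue R)) ≫ σ) := by
    rw [← hσ, ← Category.assoc]
    infer_instance
  -- the induced maps of special fibres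
  have key1 : pR (VanCyc.icl R fW (ζ default)) = VanCyc.icl R (pullback.snd f σ) (ξ₁ default) := by
    let ps : VanCyc.spFib R fW ⟶ VanCyc.spFib R (pullback.snd f σ) :=
      pullback.lift (VanCyc.icl R fW ≫ pR) (VanCyc.spStr R fW) (by
        rw [Category.assoc, epR]; exact pullback.condition)
    have e1 : ps ≫ VanCyc.icl R (pullback.snd f σ) = VanCyc.icl R fW ≫ pR := pullback.lift_fst _ _ _
    have e2 : ps (ζ default) = ξ₁ default := by
      apply injective_of_mono f σ hm₁'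
      rw [← Scheme.Hom.comp_apply, ← Category.assoc, e1, Category.assoc, epR1, Scheme.Hom.comp_apply,
        Scheme.Hom.comp_apply, Scheme.Hom.comp_apply, hξ₁, hζ, hz, hy1]
    rw [← Scheme.Hom.comp_apply, ← e1, Scheme.Hom.comp_apply, e2]
  have key2 : qR (VanCyc.icl R fW (ζ default)) = VanCyc.icl R (pullback.snd g ψ) (ξ₂ default) := by
    let ps : VanCyc.spFib R fW ⟶ VanCyc.spFib R (pullback.snd g ψ) :=
      pullback.lift (VanCyc.icl R fW ≫ qR) (VanCyc.spStr R fW) (by
        rw [Category.assoc, eqR]; exact pullback.condition)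
    have e1 : ps ≫ VanCyc.icl R (pullback.snd g ψ) = VanCyc.icl R fW ≫ qR := pullback.lift_fst _ _ _
    have e2 : ps (ζ default) = ξ₂ default := by
      apply injective_of_mono g ψ hm₁
      rw [← Scheme.Hom.comp_apply, ← Category.assoc, e1, Category.assoc, eqR1, Scheme.Hom.comp_apply,
        Scheme.Hom.comp_apply, Scheme.Hom.comp_apply, hξ₂, hζ, hz, hy1]
    rw [← Scheme.Hom.comp_apply, ← e1, Scheme.Hom.comp_apply, e2]
  obtain ⟨a⟩ := hP R Ω hR ℓ hℓ hℓR fW (pullback.snd f σ) pR epR ζ ξ₁ key1 i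
  obtain ⟨b⟩ := hP R Ω hR ℓ hℓ hℓR fW (pullback.snd g ψ) qR eqR ζ ξ₂ key2 i
  exact ⟨a.symm.trans b⟩

end Groth.Agent.Vancyc.H588.AsmRoof
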