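import Groth.Agent.Vancyc.H588.EulerT

/-!
# The Euler characteristic of a proper family over a curve, tame ramification

`C` is a smooth proper connected curve over an algebraically closed field, `ℓ` a prime invertible in `k`.

* `gosT`, `curveGos`: `e(C, F) = (2 - 2g - #S) log #F_η + ∑_{x ∈ S} log #F_x` for `F` constructible, killed by `ℓ`,
  with a tame Galois datum (`TameDatum`) on the complement of the finite set `S`;
* `curveEuler`: `e(Y, M) = (2 - 2g) e(Y_η, M) + ∑_{x ∈ S} (e(Y_x, M) - e(Y_η, M))` for `f : Y ⟶ C` proper and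
  `R^q f_* M` as above.
-/

set_option autoImplicit false
universe u
open CategoryTheory CategoryTheory.Limits AlgebraicGeometry Opposite

namespace Groth.Agent.Vancyc.H588.CurveEuler

open Groth.Agent.Lefpen.H714 EulerAlg EulerEt Gos GosA EulerT

/-- A tame Galois datum: the hypotheses of S4175. -/
def TameDatum (k : Type u) [Field k] {C : Scheme.{u}} (F : EtCoh.Ab C) {U : Scheme.{u}} (j : U ⟶ C) : Prop :=
  ∃ (C' : Scheme.{u}) (_ : ConnectedSpace C') (q : C' ⟶ C) (_ : IsFinite q) (_ : Surjective q)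
      (G : Type) (_ : Group G) (_ : Finite G) (ρ : G →* Aut C'),
      (∀ y : C', IsRegularLocalRing (C'.presheaf.stalk y)) ∧ (∀ g : G, (ρ g).hom ≫ q = q) ∧
      EtCoh.etaleMP (pullback.snd q j) ∧
      (∀ y : C', IsClosed ({y} : Set C') → q.base y ∈ Set.range j.base →
        ∀ g : G, (ρ g).hom.base y = y → g = 1) ∧
      (∀ y₁ y₂ : C', IsClosed ({y₁} : Set C') → IsClosed ({y₂} : Set C') →
        q.base y₁ ∈ Set.range j.base → q.base y₁ = q.base y₂ → ∃ g : G, (ρ g).hom.base y₁ = y₂) ∧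
      (∃ (N : Type) (_ : AddCommGroup N),
        Nonempty ((EtCoh.pull (pullback.snd q j ≫ j)).obj F ≅ EtCoh.const (pullback q j) N)) ∧
      (∀ y : C', IsClosed ({y} : Set C') → ∀ p : ℕ, p.Prime → (p : k) = 0 →
        ¬ p ∣ Nat.card {g : G // (ρ g).hom.base y = y})

variable {k : Type u} [Field k] [IsAlgClosed k] {C : Scheme.{u}}
  [C.Over (Spec (CommRingCat.of k))] [ConnectedSpace C] [IsProper (C ↘ Spec (CommRingCat.of k))]
  [SmoothOfRelativeDimension 1 (C ↘ Spec (CommRingCat.of k))]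

/-- The Euler characteristic of a constructible tame sheaf on a curve. -/
theorem gosT (hT : TameEC.{u}) (ℓ : ℕ) [Fact ℓ.Prime] (hℓ : (ℓ : k) ≠ 0)
    (F : EtCoh.Ab C) (hF : EtPBC.IsConstructible F) (hFn : EtCoh.KilledBy ℓ F)
    {U : Scheme.{u}} (j : U ⟶ C) [IsOpenImmersion j] [Nonempty U] (hD : TameDatum k F j)
    (S : Finset C) (hS : (S : Set C) = (Set.range j.base)ᶜ)
    {Ω : Type u} [Field Ω] [IsSepClosed Ω] (η : Spec (CommRingCat.of Ω) ⟶ C)
    (hη : Set.range η.base ⊆ Set.range j.base) [Finite ((EtCoh.stalk η).obj F)]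
    (ξ : C → (Spec (CommRingCat.of Ω) ⟶ C)) (hξ : ∀ x ∈ S, Set.range (ξ x).base = {x})
    (hfin : ∀ x ∈ S, Finite ((EtCoh.stalk (ξ x)).obj F)) :
    GoodE C F ∧ (∀ i : ℕ, 3 ≤ i → Subsingleton (EtCoh.H C F i)) ∧
      e C F = (2 - 2 * (Curv2.genus k C : ℝ) - S.card) * lg ((EtCoh.stalk η).obj F) +
        ∑ x ∈ S, lg ((EtCoh.stalk (ξ x)).obj F) := by
  obtain ⟨C', _, q, _, _, G, _, _, ρ, h1, h2, h3, h4, h5, h6, h7⟩ := hD
  obtain ⟨a, b, c⟩ := hT k C ℓ 1 hℓ one_pos F hF (by rwa [pow_one]) j S hS h1 q G ρ h2 h3 h4 h5 h6 h7 η hη ξ hξ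
  refine ⟨⟨a, 2, fun n hn => b n hn⟩, b, ?_⟩
  have e0 : e C F = lg (EtCoh.H C F 0) - lg (EtCoh.H C F 1) + lg (EtCoh.H C F 2) := by
    unfold e
    rw [chi_eq_sum 2 (fun n hn => b n hn)]
    simp [Finset.sum_range_succ]
    ring
  have pos : ∀ {M : Type (u + 1)} [AddCommGroup M] [Finite M], (0 : ℝ) < Nat.card M := by
    intro M _ _
    exact_mod_cast Nat.card_pos
  have p0 : (0 : ℝ) < Nat.card (EtCoh.H C F 0) := by
    have := a 0
    exact pos
  have p1 : (0 : ℝ) < Nat.card (EtCoh.H C F 1) := by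
    have := a 1
    exact pos
  have p2 : (0 : ℝ) < Nat.card (EtCoh.H C F 2) := by
    have := a 2
    exact pos
  have pη : (0 : ℝ) < Nat.card ((EtCoh.stalk η).obj F) := pos
  have pξ : ∀ x ∈ S, (0 : ℝ) < Nat.card ((EtCoh.stalk (ξ x)).obj F) := by
    intro x hx
    have := hfin x hx
    exact pos
  have c' : ((Nat.card (EtCoh.H C F 0) * Nat.card (EtCoh.H C F 2) *
          Nat.card ((EtCoh.stalk η).obj F) ^ (2 * Curv2.genus k C) *
            ∏ x ∈ S, Nat.card ((EtCoh.stalk η).obj F) : ℕ) : ℝ) =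
        ((Nat.card (EtCoh.H C F 1) * Nat.card ((EtCoh.stalk η).obj F) ^ 2 *
          ∏ x ∈ S, Nat.card ((EtCoh.stalk (ξ x)).obj F) : ℕ) : ℝ) := congrArg _ c
  push_cast at c'
  have c2 := congrArg Real.log c'
  have pprod : (0 : ℝ) < ∏ x ∈ S, (Nat.card ((EtCoh.stalk (ξ x)).obj F) : ℝ) :=
    Finset.prod_pos pξ
  have pprod' : (0 : ℝ) < ∏ x ∈ S, (Nat.card ((EtCoh.stalk η).obj F) : ℝ) :=
    Finset.prod_pos fun _ _ => pη
  rw [Real.log_mul (by positivity) pprod'.ne', Real.log_mul (by positivity) (by positivity),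
    Real.log_mul p0.ne' p2.ne', Real.log_mul (by positivity) pprod.ne',
    Real.log_mul p1.ne' (by positivity), Real.log_pow, Real.log_pow,
    Real.log_prod (fun x hx => (pξ x hx).ne'), Real.log_prod (fun x hx => pη.ne'),
    Finset.sum_const, nsmul_eq_mul] at c2
  rw [e0]
  simp only [lg]
  push_cast at c2
  linarith

/-- The Euler characteristic of a constructible tame sheaf on a curve, arbitrary geometric points. -/
theorem curveGos (hT : TameEC.{u}) (ℓ : ℕ) [Fact ℓ.Prime] (hℓ : (ℓ : k) ≠ 0)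
    (F : EtCoh.Ab C) (hF : EtPBC.IsConstructible F) (hFn : EtCoh.KilledBy ℓ F)
    {U : Scheme.{u}} (j : U ⟶ C) [IsOpenImmersion j] [Nonempty U] (hD : TameDatum k F j)
    (S : Finset C) (hS : (S : Set C) = (Set.range j)ᶜ) (hSc : ∀ x ∈ S, IsClosed ({x} : Set C))
    {Ω : Type u} [Field Ω] [IsSepClosed Ω] (η : Spec (CommRingCat.of Ω) ⟶ C) (hη : η default ∈ Set.range j)
    {K : C → Type u} [∀ a, Field (K a)] [∀ a, IsSepClosed (K a)]
    (ξ : ∀ a : C, (Spec (CommRingCat.of (K a)) ⟶ C)) (hξ : ∀ a ∈ S, ξ a default = a) :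
    GoodE C F ∧ e C F = (2 - 2 * (Curv2.genus k C : ℝ) - S.card) * lg ((EtCoh.stalk η).obj F) +
        ∑ a ∈ S, lg ((EtCoh.stalk (ξ a)).obj F) := by
  classical
  have hCc : CompactSpace C := QuasiCompact.compactSpace_of_compactSpace (C ↘ Spec (CommRingCat.of k))
  have hCl : IsLocallyNoetherian C := LocallyOfFiniteType.isLocallyNoetherian (C ↘ Spec (CommRingCat.of k))
  have hCn : IsNoetherian C := { }
  let c : Spec (CommRingCat.of Ω) ⟶ Spec (CommRingCat.of k) := η ≫ (C ↘ Spec (CommRingCat.of k))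
  let ξ' : C → (Spec (CommRingCat.of Ω) ⟶ C) := fun x =>
    if hx : IsClosed ({x} : Set C) then c ≫ pointOfClosedPoint (C ↘ Spec (CommRingCat.of k)) x hx
    else η
  have hξ' : ∀ x ∈ S, ∀ p, ξ' x p = x := by
    intro x hx p
    simp only [ξ', dif_pos (hSc x hx)]
    rw [Scheme.Hom.comp_apply]
    exact pointOfClosedPoint_apply _ _ _ _
  have fη : Finite ((EtCoh.stalk η).obj F) := EtpbcB.GeomPointIndep.finite_stalk_of_constructible η F hF
  obtain ⟨g1, -, g3⟩ := gosT (k := k) hT ℓ hℓ F hF hFn j hD S hS η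
    (by
      rintro _ ⟨p, rfl⟩
      obtain rfl : p = default := Subsingleton.elim _ _
      exact hη) ξ'
    (by
      intro x hx
      ext y
      constructor
      · rintro ⟨p, rfl⟩
        exact hξ' x hx p
      · rintro rfl
        exact ⟨default, hξ' _ hx _⟩)
    (fun x _ => EtpbcB.GeomPointIndep.finite_stalk_of_constructible (ξ' x) F hF)
  refine ⟨g1, ?_⟩
  rw [g3]
  congr 1
  refine Finset.sum_congr rfl fun a ha => ?_
  obtain ⟨e1⟩ := EtpbcB.GeomPointIndep.nonempty_stalkIso (ξ' a) (ξ a) (by rw [hξ' a ha, hξ a ha])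
  exact lg_congr (e1.app F).addCommGroupIsoToAddEquiv.toEquiv

include k in
/-- **The Euler characteristic of a proper family over a curve**, tame ramification. -/
theorem curveEuler (hT : TameEC.{u}) (ℓ : ℕ) [Fact ℓ.Prime] (hℓ : (ℓ : k) ≠ 0)
    {Y : Scheme.{u}} (f : Y ⟶ C) [IsProper f]
    (M : EtCoh.Ab Y) (hM : EtPBC.IsConstructible M) (hMn : EtCoh.KilledBy ℓ M)
    {U : Scheme.{u}} (j : U ⟶ C) [IsOpenImmersion j] [Nonempty U]
    (hD : ∀ q, TameDatum k ((EtCoh.Rpush f q).obj M) j)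
    (S : Finset C) (hS : (S : Set C) = (Set.range j)ᶜ) (hSc : ∀ x ∈ S, IsClosed ({x} : Set C))
    {Ω : Type u} [Field Ω] [IsSepClosed Ω] (η : Spec (CommRingCat.of Ω) ⟶ C) (hη : η default ∈ Set.range j)
    {K : C → Type u} [∀ a, Field (K a)] [∀ a, IsSepClosed (K a)]
    (ξ : ∀ a : C, (Spec (CommRingCat.of (K a)) ⟶ C)) (hξ : ∀ a ∈ S, ξ a default = a) :
    GoodE Y M ∧ e Y M = (2 - 2 * (Curv2.genus k C : ℝ)) * e (pullback f η) ((EtCoh.pull (pullback.fst f η)).obj M) +
        ∑ a ∈ S, (e (pullback f (ξ a)) ((EtCoh.pull (pullback.fst f (ξ a))).obj M) -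
          e (pullback f η) ((EtCoh.pull (pullback.fst f η)).obj M)) := by
  have hℓp : ℓ.Prime := Fact.out
  have hMt : EtCoh.IsTorsion M := Etrest.ConstBasic.isTorsion_of_killedBy hℓp.pos hMn
  have hCc : CompactSpace C := QuasiCompact.compactSpace_of_compactSpace (C ↘ Spec (CommRingCat.of k))
  have hCl : IsLocallyNoetherian C := LocallyOfFiniteType.isLocallyNoetherian (C ↘ Spec (CommRingCat.of k))
  have hCn : IsNoetherian C := { }
  have hYc : CompactSpace Y := QuasiCompact.compactSpace_of_compactSpace f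
  have hfp : LocallyOfFinitePresentation f := LocallyOfFinitePresentation.iff_locallyOfFiniteType.2 inferInstance
  obtain ⟨d, hd⟩ := Sga4h.GenULADim.exists_dim_bound f
  have hN : ∀ q, 2 * d < q → IsZero ((EtCoh.Rpush f q).obj M) := fun q hq =>
    Groth.Agent.S0126.result f d hd M hMt q hq
  have hgos := fun q => curveGos (k := k) hT ℓ hℓ ((EtCoh.Rpush f q).obj M)
      (Groth.Agent.S0184.result f ℓ hℓp.pos M hM hMn q)
      (Sga4B.ShriekTools.killedBy_map (EtCoh.Rpush f q) ℓ M hMn) j (hD q) S hS hSc η hη ξ hξ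
  obtain ⟨g1, g2⟩ := leray f (2 * d) M (fun q => (hgos q).1)
    (fun q hq p => subsingleton_H_of_isZero _ (hN q hq) p)
  refine ⟨g1, ?_⟩
  have h3 : ∀ a ∈ S, e (pullback f (ξ a)) ((EtCoh.pull (pullback.fst f (ξ a))).obj M) =
      ∑ q ∈ Finset.range (2 * d + 1), (-1 : ℝ) ^ q *
        lg ((EtCoh.stalk (ξ a)).obj ((EtCoh.Rpush f q).obj M)) := fun a _ =>
    e_fibre f M hMt (2 * d) hN (ξ a)
  have h4 : (2 - 2 * (Curv2.genus k C : ℝ)) * e (pullback f η) ((EtCoh.pull (pullback.fst f η)).obj M) +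
        ∑ a ∈ S, (e (pullback f (ξ a)) ((EtCoh.pull (pullback.fst f (ξ a))).obj M) -
          e (pullback f η) ((EtCoh.pull (pullback.fst f η)).obj M)) =
      (2 - 2 * (Curv2.genus k C : ℝ) - S.card) * e (pullback f η) ((EtCoh.pull (pullback.fst f η)).obj M) +
        ∑ a ∈ S, e (pullback f (ξ a)) ((EtCoh.pull (pullback.fst f (ξ a))).obj M) := by
    rw [Finset.sum_sub_distrib, Finset.sum_const, nsmul_eq_mul]
    ring
  rw [g2, h4, e_fibre f M hMt (2 * d) hN η, Finset.mul_sum, Finset.sum_congr rfl h3, Finset.sum_comm,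
    ← Finset.sum_add_distrib]
  refine Finset.sum_congr rfl fun q _ => ?_
  rw [(hgos q).2, ← Finset.mul_sum]
  ring

end Groth.Agent.Vancyc.H588.CurveEuler
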