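import Groth.Agent.Vancyc.H588.CurveTame
import Groth.Agent.Vancyc.H588.P1
import Groth.Agent.S0023

/-!
# The Euler characteristic of a proper family over the projective line, tame ramification
-/

set_option autoImplicit false
universe u
open CategoryTheory CategoryTheory.Limits AlgebraicGeometry Opposite

namespace Groth.Agent.Vancyc.H588.CurveP1

open Groth.Agent.Lefpen.H714 EulerAlg EulerEt Gos GosA EulerT CurveEuler
open Groth.Agent.Lefpen.H534.TameCover (TameAt)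

theorem genus_projSpace (k : Type u) [Field k] : Curv2.genus k (CohB1.ProjSpace 1 k) = 0 := by
  have : Subsingleton (Coh.HH (CohB1.ProjSpace 1 k) (Coh.structureModule (CohB1.ProjSpace 1 k)) 1) :=
    Groth.Agent.S0023.result 1 k 1 Nat.one_pos
  exact Module.finrank_zero_of_subsingleton

/-- **The Euler characteristic of a proper family over the projective line**, tame ramification:
`e(Y) = 2 e(Y_η) + ∑_{x ∈ S} (e(Y_x) - e(Y_η))`. -/
theorem p1Euler {k : Type u} [Field k] [IsAlgClosed k] (hT : TameEC.{u}) (ℓ : ℕ) [Fact ℓ.Prime] (hℓ : (ℓ : k) ≠ 0)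
    {Y : Scheme.{u}} (f : Y ⟶ CohB1.ProjSpace 1 k) [IsProper f]
    (M : EtCoh.Ab Y) (hM : EtPBC.IsConstructible M) (hMn : EtCoh.KilledBy ℓ M)
    (S : Finset (CohB1.ProjSpace 1 k)) (hSc : ∀ x ∈ S, IsClosed ({x} : Set (CohB1.ProjSpace 1 k)))
    {U : Scheme.{u}} (j : U ⟶ CohB1.ProjSpace 1 k) [IsOpenImmersion j]
    (hS : (S : Set (CohB1.ProjSpace 1 k)) = (Set.range j)ᶜ)
    (hL : ∀ q, EtCoh.IsFiniteLocallyConstant ((EtCoh.pull j).obj ((EtCoh.Rpush f q).obj M)))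
    (ht : ∀ q, ∀ x ∈ S, TameAt k ((EtCoh.Rpush f q).obj M) x)
    {Ω : Type u} [Field Ω] [IsSepClosed Ω] (η : Spec (CommRingCat.of Ω) ⟶ CohB1.ProjSpace 1 k)
    (hη : η default ∉ S)
    {K : CohB1.ProjSpace 1 k → Type u} [∀ a, Field (K a)] [∀ a, IsSepClosed (K a)]
    (ξ : ∀ a : CohB1.ProjSpace 1 k, (Spec (CommRingCat.of (K a)) ⟶ CohB1.ProjSpace 1 k))
    (hξ : ∀ a ∈ S, ξ a default = a) :
    GoodE Y M ∧ e Y M = 2 * e (pullback f η) ((EtCoh.pull (pullback.fst f η)).obj M) +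
        ∑ a ∈ S, (e (pullback f (ξ a)) ((EtCoh.pull (pullback.fst f (ξ a))).obj M) -
          e (pullback f η) ((EtCoh.pull (pullback.fst f η)).obj M)) := by
  obtain ⟨h1, h2⟩ := CurveTame.curveEuler (k := k) (C := CohB1.ProjSpace 1 k) hT ℓ hℓ f M hM hMn S hSc j hS
    hL ht η hη ξ hξ
  refine ⟨h1, h2.trans ?_⟩
  rw [genus_projSpace]
  simp

/-- The case of constant coefficients. -/
theorem p1Ec {k : Type u} [Field k] [IsAlgClosed k] (hT : TameEC.{u}) (ℓ : ℕ) [Fact ℓ.Prime] (hℓ : (ℓ : k) ≠ 0)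
    {Y : Scheme.{u}} (f : Y ⟶ CohB1.ProjSpace 1 k) [IsProper f]
    (S : Finset (CohB1.ProjSpace 1 k)) (hSc : ∀ x ∈ S, IsClosed ({x} : Set (CohB1.ProjSpace 1 k)))
    {U : Scheme.{u}} (j : U ⟶ CohB1.ProjSpace 1 k) [IsOpenImmersion j]
    (hS : (S : Set (CohB1.ProjSpace 1 k)) = (Set.range j)ᶜ)
    (hL : ∀ q, EtCoh.IsFiniteLocallyConstant ((EtCoh.pull j).obj ((EtCoh.Rpush f q).obj (EtCoh.const Y (ZMod ℓ)))))
    (ht : ∀ q, ∀ x ∈ S, TameAt k ((EtCoh.Rpush f q).obj (EtCoh.const Y (ZMod ℓ))) x)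
    {Ω : Type u} [Field Ω] [IsSepClosed Ω] (η : Spec (CommRingCat.of Ω) ⟶ CohB1.ProjSpace 1 k)
    (hη : η default ∉ S)
    {K : CohB1.ProjSpace 1 k → Type u} [∀ a, Field (K a)] [∀ a, IsSepClosed (K a)]
    (ξ : ∀ a : CohB1.ProjSpace 1 k, (Spec (CommRingCat.of (K a)) ⟶ CohB1.ProjSpace 1 k))
    (hξ : ∀ a ∈ S, ξ a default = a) :
    GoodE Y (EtCoh.const Y (ZMod ℓ)) ∧ ec ℓ Y = 2 * ec ℓ (pullback f η) +
        ∑ a ∈ S, (ec ℓ (pullback f (ξ a)) - ec ℓ (pullback f η)) := by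
  obtain ⟨h1, h2⟩ := CurveTame.curveEc (k := k) (C := CohB1.ProjSpace 1 k) hT ℓ hℓ f S hSc j hS hL ht η hη ξ hξ
  refine ⟨h1, h2.trans ?_⟩
  rw [genus_projSpace]
  simp

end Groth.Agent.Vancyc.H588.CurveP1
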