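import Groth.Agent.Vancyc.H588.CurveEuler
import Groth.Agent.Lefpen.H534.TameCover

/-!
# The Euler characteristic of a proper family over a curve, tame ramification

* `tameDatum_of_tameAt`: finite locally constant on the complement and `TameAt` (helper534) at the points of `S`
  give a tame Galois datum;
* `curveEuler`: `e(Y, M) = (2 - 2g) e(Y_η, M) + ∑_{x ∈ S} (e(Y_x, M) - e(Y_η, M))` for `f : Y ⟶ C` proper and
  `R^q f_* M` finite locally constant off `S`, tame at the points of `S`.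
-/

set_option autoImplicit false
universe u
open CategoryTheory CategoryTheory.Limits AlgebraicGeometry Opposite

namespace Groth.Agent.Vancyc.H588.CurveTame

open Groth.Agent.Lefpen.H714 EulerAlg EulerEt Gos GosA EulerT CurveEuler
open Groth.Agent.Lefpen.H534.TameCover (TameAt)

/-- Tame at the missing points. -/
theorem tameDatum_of_tameAt {k : Type u} [Field k] [IsAlgClosed k] {C U : Scheme.{u}}
    (f : C ⟶ Spec (CommRingCat.of k)) [SmoothOfRelativeDimension 1 f] [QuasiCompact f]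
    [ConnectedSpace C] (j : U ⟶ C) [IsOpenImmersion j] [Nonempty U] (F : EtCoh.Ab C)
    (hF : EtCoh.IsFiniteLocallyConstant ((EtCoh.pull j).obj F))
    (ht : ∀ x : C, IsClosed ({x} : Set C) → x ∉ Set.range j → TameAt k F x) :
    TameDatum k F j := by
  obtain ⟨C', q, G, _, _, ρ, h1, h2, h3, h4, h5, h6, h7, h8, h9, h10⟩ :=
    Groth.Agent.Lefpen.H534.TameCover.exists_cover f j F hF ht
  exact ⟨C', h1, q, h3, h4, G, inferInstance, inferInstance, ρ, h2, h5, h6, h7, h8, h9, h10⟩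

variable {k : Type u} [Field k] [IsAlgClosed k] {C : Scheme.{u}}
  [C.Over (Spec (CommRingCat.of k))] [ConnectedSpace C] [IsProper (C ↘ Spec (CommRingCat.of k))]
  [SmoothOfRelativeDimension 1 (C ↘ Spec (CommRingCat.of k))]

include k in
/-- **The Euler characteristic of a proper family over a curve**, tame ramification. -/
theorem curveEuler (hT : TameEC.{u}) (ℓ : ℕ) [Fact ℓ.Prime] (hℓ : (ℓ : k) ≠ 0)
    {Y : Scheme.{u}} (f : Y ⟶ C) [IsProper f]
    (M : EtCoh.Ab Y) (hM : EtPBC.IsConstructible M) (hMn : EtCoh.KilledBy ℓ M)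
    (S : Finset C) (hSc : ∀ x ∈ S, IsClosed ({x} : Set C))
    {U : Scheme.{u}} (j : U ⟶ C) [IsOpenImmersion j] (hS : (S : Set C) = (Set.range j)ᶜ)
    (hL : ∀ q, EtCoh.IsFiniteLocallyConstant ((EtCoh.pull j).obj ((EtCoh.Rpush f q).obj M)))
    (ht : ∀ q, ∀ x ∈ S, TameAt k ((EtCoh.Rpush f q).obj M) x)
    {Ω : Type u} [Field Ω] [IsSepClosed Ω] (η : Spec (CommRingCat.of Ω) ⟶ C) (hη : η default ∉ S)
    {K : C → Type u} [∀ a, Field (K a)] [∀ a, IsSepClosed (K a)]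
    (ξ : ∀ a : C, (Spec (CommRingCat.of (K a)) ⟶ C)) (hξ : ∀ a ∈ S, ξ a default = a) :
    GoodE Y M ∧ e Y M = (2 - 2 * (Curv2.genus k C : ℝ)) * e (pullback f η) ((EtCoh.pull (pullback.fst f η)).obj M) +
        ∑ a ∈ S, (e (pullback f (ξ a)) ((EtCoh.pull (pullback.fst f (ξ a))).obj M) -
          e (pullback f η) ((EtCoh.pull (pullback.fst f η)).obj M)) := by
  have hη' : η default ∈ Set.range j := by
    have h1 : η default ∉ (S : Set C) := hη
    rw [hS] at h1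
    exact not_not.1 h1
  have hU : Nonempty U := ⟨hη'.choose⟩
  refine CurveEuler.curveEuler (k := k) hT ℓ hℓ f M hM hMn j (fun q => ?_) S hS hSc η hη' ξ hξ
  refine tameDatum_of_tameAt (C ↘ Spec (CommRingCat.of k)) j _ (hL q) fun x _ hx2 => ht q x ?_
  have h2 : x ∈ (Set.range j)ᶜ := hx2
  rw [← hS] at h2
  exact h2

include k in
/-- The case of constant coefficients. -/
theorem curveEc (hT : TameEC.{u}) (ℓ : ℕ) [Fact ℓ.Prime] (hℓ : (ℓ : k) ≠ 0)
    {Y : Scheme.{u}} (f : Y ⟶ C) [IsProper f]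
    (S : Finset C) (hSc : ∀ x ∈ S, IsClosed ({x} : Set C))
    {U : Scheme.{u}} (j : U ⟶ C) [IsOpenImmersion j] (hS : (S : Set C) = (Set.range j)ᶜ)
    (hL : ∀ q, EtCoh.IsFiniteLocallyConstant ((EtCoh.pull j).obj ((EtCoh.Rpush f q).obj (EtCoh.const Y (ZMod ℓ)))))
    (ht : ∀ q, ∀ x ∈ S, TameAt k ((EtCoh.Rpush f q).obj (EtCoh.const Y (ZMod ℓ))) x)
    {Ω : Type u} [Field Ω] [IsSepClosed Ω] (η : Spec (CommRingCat.of Ω) ⟶ C) (hη : η default ∉ S)
    {K : C → Type u} [∀ a, Field (K a)] [∀ a, IsSepClosed (K a)]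
    (ξ : ∀ a : C, (Spec (CommRingCat.of (K a)) ⟶ C)) (hξ : ∀ a ∈ S, ξ a default = a) :
    GoodE Y (EtCoh.const Y (ZMod ℓ)) ∧ ec ℓ Y = (2 - 2 * (Curv2.genus k C : ℝ)) * ec ℓ (pullback f η) +
        ∑ a ∈ S, (ec ℓ (pullback f (ξ a)) - ec ℓ (pullback f η)) := by
  have hℓp : ℓ.Prime := Fact.out
  have : NeZero ℓ := ⟨hℓp.ne_zero⟩
  obtain ⟨h1, h2⟩ := curveEuler (k := k) hT ℓ hℓ f (EtCoh.const Y (ZMod ℓ))
    (Etrest.ConstBasic.isConstructible_const Y (ZMod ℓ))
    (Etrest.ConstBasic.killedBy_const Y (ZMod ℓ) ℓ (fun m => by simp)) S hSc j hS hL ht η hη ξ hξ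
  refine ⟨h1, h2.trans ?_⟩
  have hc : ∀ {K' : Type u} [Field K'] (c : Spec (CommRingCat.of K') ⟶ C),
      e (pullback f c) ((EtCoh.pull (pullback.fst f c)).obj (EtCoh.const Y (ZMod ℓ))) = ec ℓ (pullback f c) :=
    fun c => e_iso (EtCore.pullConst (pullback.fst f c) (ZMod ℓ))
  rw [hc η]
  congr 1
  exact Finset.sum_congr rfl fun a _ => by rw [hc (ξ a)]

end Groth.Agent.Vancyc.H588.CurveTame
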