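import Groth.Agent.Vancyc.H588.GosA
import Groth.Agent.S0126
import Groth.Agent.S0156
import Groth.Agent.S0184
import Groth.Agent.S3113
import Groth.Agent.Sga4h.GenULADim
import Groth.Agent.Sga5.HcConst

/-!
# The Euler characteristic of a family over the affine line, characteristic zero

`eulerT`: `C` a smooth proper connected curve, `w : A ⟶ C` the complement of one point, `G : Y ⟶ A` proper,
`Y ⊂ Ybar` open with `Ybar` proper over `C`, `M` a constructible sheaf on `Y` killed by `ℓ` with `R^q G_* M`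
finite locally constant on the complement of the finite set `S ⊂ A`. Then
`e(Ybar, j_! M) = (1 - 2g - #S) e(Y_η, M) + ∑_{a ∈ S} e(Y_a, M)`.
-/

set_option autoImplicit false
universe u
open CategoryTheory CategoryTheory.Limits AlgebraicGeometry Opposite

namespace Groth.Agent.Vancyc.H588.EulerT

open Groth.Agent.Lefpen.H714 EulerAlg EulerEt Gos GosA

/-- The Euler characteristic of the geometric fibre through the stalks of the direct images. -/
theorem e_fibre {A Y : Scheme.{u}} (G : Y ⟶ A) [IsProper G] (M : EtCoh.Ab Y) (hM : EtCoh.IsTorsion M)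
    (N : ℕ) (hN : ∀ q, N < q → IsZero ((EtCoh.Rpush G q).obj M))
    {Ω : Type u} [Field Ω] [IsSepClosed Ω] (η : Spec (CommRingCat.of Ω) ⟶ A) :
    e (pullback G η) ((EtCoh.pull (pullback.fst G η)).obj M) =
      ∑ q ∈ Finset.range (N + 1), (-1 : ℝ) ^ q * lg ((EtCoh.stalk η).obj ((EtCoh.Rpush G q).obj M)) := by
  have h1 : ∀ q, Nonempty (EtCoh.H (pullback G η) ((EtCoh.pull (pullback.fst G η)).obj M) q ≃
      (EtCoh.stalk η).obj ((EtCoh.Rpush G q).obj M)) := by
    intro q
    obtain ⟨e1⟩ := Groth.Agent.S0156.result G η M hM q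
    exact ⟨e1.addCommGroupIsoToAddEquiv.symm.toEquiv⟩
  unfold e
  rw [chi_eq_sum N]
  · refine Finset.sum_congr rfl fun q _ => ?_
    obtain ⟨e1⟩ := h1 q
    rw [lg_congr e1]
  · intro q hq
    obtain ⟨e1⟩ := h1 q
    have h2 : IsZero ((EtCoh.stalk η).obj ((EtCoh.Rpush G q).obj M)) := Functor.map_isZero _ (hN q hq)
    have := AddCommGrpCat.subsingleton_of_isZero h2
    exact e1.subsingleton

theorem subsingleton_H_of_isZero {X : Scheme.{u}} (F : EtCoh.Ab X) (h : IsZero F) (p : ℕ) :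
    Subsingleton (EtCoh.H X F p) := by
  have : IsZero ((EtCoh.HF X p).obj F) := Functor.map_isZero _ h
  exact AddCommGrpCat.subsingleton_of_isZero this

variable {k : Type u} [Field k] [IsAlgClosed k] [CharZero k] {C : Scheme.{u}}
  [C.Over (Spec (CommRingCat.of k))] [ConnectedSpace C] [IsProper (C ↘ Spec (CommRingCat.of k))]
  [SmoothOfRelativeDimension 1 (C ↘ Spec (CommRingCat.of k))]

include k in
theorem eulerT (hT : TameEC.{u}) (hG : GalDatum.{u}) (ℓ : ℕ) [Fact ℓ.Prime]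
    {A Y Ybar : Scheme.{u}} (w : A ⟶ C) [IsOpenImmersion w] (x₀ : C) (hw : (Set.range w)ᶜ = {x₀})
    (G : Y ⟶ A) [IsProper G] (j : Y ⟶ Ybar) [IsOpenImmersion j] (f : Ybar ⟶ C) [IsProper f]
    (hsq : j ≫ f = G ≫ w)
    (M : EtCoh.Ab Y) (hM : EtPBC.IsConstructible M) (hMn : EtCoh.KilledBy ℓ M)
    {U : Scheme.{u}} (u : U ⟶ A) [IsOpenImmersion u] [Nonempty U]
    (S : Finset A) (hS : (S : Set A) = (Set.range u)ᶜ) (hSc : ∀ a ∈ S, IsClosed ({a} : Set A))
    (hU : ∀ q, EtCoh.IsFiniteLocallyConstant ((EtCoh.pull u).obj ((EtCoh.Rpush G q).obj M)))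
    {Ω : Type u} [Field Ω] [IsSepClosed Ω] (η : Spec (CommRingCat.of Ω) ⟶ A)
    (hη : η default ∈ Set.range u)
    {K : A → Type u} [∀ a, Field (K a)] [∀ a, IsSepClosed (K a)]
    (ξ : ∀ a : A, (Spec (CommRingCat.of (K a)) ⟶ A)) (hξ : ∀ a ∈ S, ξ a default = a) :
    GoodE Ybar ((EtShriek.extZero j).obj M) ∧
      e Ybar ((EtShriek.extZero j).obj M) =
        (1 - 2 * (Curv2.genus k C : ℝ) - S.card) *
          e (pullback G η) ((EtCoh.pull (pullback.fst G η)).obj M) +
        ∑ a ∈ S, e (pullback G (ξ a)) ((EtCoh.pull (pullback.fst G (ξ a))).obj M) := by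
  have hℓp : ℓ.Prime := Fact.out
  have hMt : EtCoh.IsTorsion M := Etrest.ConstBasic.isTorsion_of_killedBy hℓp.pos hMn
  have hCc : CompactSpace C := QuasiCompact.compactSpace_of_compactSpace (C ↘ Spec (CommRingCat.of k))
  have hCl : IsLocallyNoetherian C := LocallyOfFiniteType.isLocallyNoetherian (C ↘ Spec (CommRingCat.of k))
  have hCn : IsNoetherian C := { }
  have hAl : IsLocallyNoetherian A := LocallyOfFiniteType.isLocallyNoetherian w
  have hAc : CompactSpace A := QuasiCompact.compactSpace_of_compactSpace w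
  have hYc : CompactSpace Y := QuasiCompact.compactSpace_of_compactSpace G
  have hfp : LocallyOfFinitePresentation G := ⟨fun {U} hU {V} hV e => by
    have : IsNoetherianRing Γ(A, U) := IsLocallyNoetherian.component_noetherian ⟨U, hU⟩
    exact RingHom.FinitePresentation.of_finiteType.1 (G.finiteType_appLE hU hV e)⟩
  obtain ⟨d, hd⟩ := Sga4h.GenULADim.exists_dim_bound G
  have hN : ∀ q, 2 * d < q → IsZero ((EtCoh.Rpush G q).obj M) := fun q hq =>
    Groth.Agent.S0126.result G d hd M hMt q hq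
  have hiso : ∀ q, Nonempty ((EtShriek.extZero w).obj ((EtCoh.Rpush G q).obj M) ≅
      (EtCoh.Rpush f q).obj ((EtShriek.extZero j).obj M)) := fun q =>
    Groth.Agent.S3113.result j w G f hsq ℓ hℓp.pos M hMn q
  have hgos : ∀ q, GoodE C ((EtShriek.extZero w).obj ((EtCoh.Rpush G q).obj M)) ∧
      e C ((EtShriek.extZero w).obj ((EtCoh.Rpush G q).obj M)) =
        (1 - 2 * (Curv2.genus k C : ℝ) - S.card) * lg ((EtCoh.stalk η).obj ((EtCoh.Rpush G q).obj M)) +
        ∑ a ∈ S, lg ((EtCoh.stalk (ξ a)).obj ((EtCoh.Rpush G q).obj M)) := fun q =>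
    gosA (k := k) hT hG ℓ w x₀ hw ((EtCoh.Rpush G q).obj M)
      (Groth.Agent.S0184.result G ℓ hℓp.pos M hM hMn q)
      (Sga4B.ShriekTools.killedBy_map (EtCoh.Rpush G q) ℓ M hMn) u S hS hSc (hU q) η hη ξ hξ
  obtain ⟨g1, g2⟩ := leray f (2 * d) ((EtShriek.extZero j).obj M)
    (fun q => by
      obtain ⟨i⟩ := hiso q
      exact (hgos q).1.iso i)
    (fun q hq p => by
      obtain ⟨i⟩ := hiso q
      refine subsingleton_H_of_isZero _ (IsZero.of_iso ?_ i.symm) p
      exact Functor.map_isZero _ (hN q hq))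
  refine ⟨g1, ?_⟩
  rw [g2, e_fibre G M hMt (2 * d) hN η, Finset.mul_sum]
  have h3 : ∀ a ∈ S, e (pullback G (ξ a)) ((EtCoh.pull (pullback.fst G (ξ a))).obj M) =
      ∑ q ∈ Finset.range (2 * d + 1), (-1 : ℝ) ^ q *
        lg ((EtCoh.stalk (ξ a)).obj ((EtCoh.Rpush G q).obj M)) := fun a _ =>
    e_fibre G M hMt (2 * d) hN (ξ a)
  rw [Finset.sum_congr rfl h3, Finset.sum_comm, ← Finset.sum_add_distrib]
  refine Finset.sum_congr rfl fun q _ => ?_
  obtain ⟨i⟩ := hiso q
  rw [← e_iso i, (hgos q).2, ← Finset.mul_sum]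
  ring

end Groth.Agent.Vancyc.H588.EulerT
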