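import Groth.Prelude.Def_PBC
import Groth.Prelude.Def_CurvBase
import Groth.Agent.Lefpen.H714.EulerEt
import Mathlib.FieldTheory.IsAlgClosed.Basic
import Mathlib.FieldTheory.IsSepClosed
import Mathlib.AlgebraicGeometry.Morphisms.Smooth
import Mathlib.AlgebraicGeometry.Morphisms.Proper
import Mathlib.AlgebraicGeometry.Morphisms.Finite
import Mathlib.AlgebraicGeometry.Morphisms.Etale
import Mathlib.AlgebraicGeometry.Morphisms.OpenImmersion
import Mathlib.SetTheory.Cardinal.Finite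
import Mathlib.CategoryTheory.Endomorphism
import Mathlib.Algebra.BigOperators.Fin
import Mathlib.RingTheory.RegularLocalRing.Defs

/-!
# The Euler characteristic formula on a curve in characteristic zero, additive form

`TameEC` is the statement of the milestone `S4175` (passed as a hypothesis so that this module stays
light), `GalDatum` the existence of the Galois covering trivialising a finite locally constant sheaf on
an open curve. `gos` is the resulting formula
`e(C, F) = (2 - 2g - #S) log #F_η + ∑_{x ∈ S} log #F_x` in characteristic zero.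
-/

set_option autoImplicit false
universe u
open CategoryTheory CategoryTheory.Limits AlgebraicGeometry Opposite

namespace Groth.Agent.Vancyc.H588.Gos

open Groth.Agent.Lefpen.H714 EulerAlg EulerEt

/-- The statement of `S4175`. -/
def TameEC : Prop :=
  ∀ (k : Type u) [Field k] [IsAlgClosed k] (C : Scheme.{u})
    [C.Over (Spec (CommRingCat.of k))] [ConnectedSpace C] [IsProper (C ↘ Spec (CommRingCat.of k))]
    [SmoothOfRelativeDimension 1 (C ↘ Spec (CommRingCat.of k))]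
    (ℓ ν : ℕ) [Fact ℓ.Prime] (_ : (ℓ : k) ≠ 0) (_ : 0 < ν)
    (F : EtCoh.Ab C) (_ : EtPBC.IsConstructible F) (_ : EtCoh.KilledBy (ℓ ^ ν) F)
    {U : Scheme.{u}} (j : U ⟶ C) [IsOpenImmersion j] [Nonempty U]
    (S : Finset C) (_ : (S : Set C) = (Set.range j.base)ᶜ)
    {C' : Scheme.{u}} [ConnectedSpace C'] (_ : ∀ y : C', IsRegularLocalRing (C'.presheaf.stalk y))
    (q : C' ⟶ C) [IsFinite q] [Surjective q]
    (G : Type) [Group G] [Finite G] (ρ : G →* Aut C') (_ : ∀ g : G, (ρ g).hom ≫ q = q)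
    (_ : EtCoh.etaleMP (pullback.snd q j))
    (_ : ∀ y : C', IsClosed ({y} : Set C') → q.base y ∈ Set.range j.base →
      ∀ g : G, (ρ g).hom.base y = y → g = 1)
    (_ : ∀ y₁ y₂ : C', IsClosed ({y₁} : Set C') → IsClosed ({y₂} : Set C') →
      q.base y₁ ∈ Set.range j.base → q.base y₁ = q.base y₂ → ∃ g : G, (ρ g).hom.base y₁ = y₂)
    (_ : ∃ (N : Type) (_ : AddCommGroup N),
      Nonempty ((EtCoh.pull (pullback.snd q j ≫ j)).obj F ≅ EtCoh.const (pullback q j) N))
    (_ : ∀ y : C', IsClosed ({y} : Set C') → ∀ p : ℕ, p.Prime → (p : k) = 0 →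
      ¬ p ∣ Nat.card {g : G // (ρ g).hom.base y = y})
    {Ω : Type u} [Field Ω] [IsSepClosed Ω] (η : Spec (CommRingCat.of Ω) ⟶ C)
    (_ : Set.range η.base ⊆ Set.range j.base)
    (ξ : C → (Spec (CommRingCat.of Ω) ⟶ C)) (_ : ∀ x ∈ S, Set.range (ξ x).base = {x}),
    (∀ i : ℕ, Finite (EtCoh.H C F i)) ∧ (∀ i : ℕ, 3 ≤ i → Subsingleton (EtCoh.H C F i)) ∧
      Nat.card (EtCoh.H C F 0) * Nat.card (EtCoh.H C F 2) *
          Nat.card ((EtCoh.stalk η).obj F) ^ (2 * Curv2.genus k C) * ∏ x ∈ S, Nat.card ((EtCoh.stalk η).obj F) =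
        Nat.card (EtCoh.H C F 1) * Nat.card ((EtCoh.stalk η).obj F) ^ 2 *
          ∏ x ∈ S, Nat.card ((EtCoh.stalk (ξ x)).obj F)

/-- Existence of the Galois covering trivialising a finite locally constant sheaf on an open curve. -/
def GalDatum : Prop :=
  ∀ (k : Type u) [Field k] [IsAlgClosed k] (C : Scheme.{u})
    [C.Over (Spec (CommRingCat.of k))] [ConnectedSpace C] [IsProper (C ↘ Spec (CommRingCat.of k))]
    [SmoothOfRelativeDimension 1 (C ↘ Spec (CommRingCat.of k))]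
    (F : EtCoh.Ab C) {U : Scheme.{u}} (j : U ⟶ C) [IsOpenImmersion j] [Nonempty U]
    (_ : EtCoh.IsFiniteLocallyConstant ((EtCoh.pull j).obj F)),
    ∃ (C' : Scheme.{u}) (_ : ConnectedSpace C') (q : C' ⟶ C) (_ : IsFinite q) (_ : Surjective q)
      (G : Type) (_ : Group G) (_ : Finite G) (ρ : G →* Aut C'),
      (∀ y : C', IsRegularLocalRing (C'.presheaf.stalk y)) ∧ (∀ g : G, (ρ g).hom ≫ q = q) ∧
      EtCoh.etaleMP (pullback.snd q j) ∧
      (∀ y : C', IsClosed ({y} : Set C') → q.base y ∈ Set.range j.base →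
        ∀ g : G, (ρ g).hom.base y = y → g = 1) ∧
      (∀ y₁ y₂ : C', IsClosed ({y₁} : Set C') → IsClosed ({y₂} : Set C') →
        q.base y₁ ∈ Set.range j.base → q.base y₁ = q.base y₂ → ∃ g : G, (ρ g).hom.base y₁ = y₂) ∧
      (∃ (N : Type) (_ : AddCommGroup N),
        Nonempty ((EtCoh.pull (pullback.snd q j ≫ j)).obj F ≅ EtCoh.const (pullback q j) N))

variable {k : Type u} [Field k] [IsAlgClosed k] [CharZero k] {C : Scheme.{u}}
  [C.Over (Spec (CommRingCat.of k))] [ConnectedSpace C] [IsProper (C ↘ Spec (CommRingCat.of k))]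
  [SmoothOfRelativeDimension 1 (C ↘ Spec (CommRingCat.of k))]

/-- The Euler characteristic of a constructible sheaf on a curve in characteristic zero. -/
theorem gos (hT : TameEC.{u}) (hG : GalDatum.{u}) (ℓ : ℕ) [Fact ℓ.Prime]
    (F : EtCoh.Ab C) (hF : EtPBC.IsConstructible F) (hFn : EtCoh.KilledBy ℓ F)
    {U : Scheme.{u}} (j : U ⟶ C) [IsOpenImmersion j] [Nonempty U]
    (S : Finset C) (hS : (S : Set C) = (Set.range j.base)ᶜ)
    (hU : EtCoh.IsFiniteLocallyConstant ((EtCoh.pull j).obj F))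
    {Ω : Type u} [Field Ω] [IsSepClosed Ω] (η : Spec (CommRingCat.of Ω) ⟶ C)
    (hη : Set.range η.base ⊆ Set.range j.base) [Finite ((EtCoh.stalk η).obj F)]
    (ξ : C → (Spec (CommRingCat.of Ω) ⟶ C)) (hξ : ∀ x ∈ S, Set.range (ξ x).base = {x})
    (hfin : ∀ x ∈ S, Finite ((EtCoh.stalk (ξ x)).obj F)) :
    GoodE C F ∧ (∀ i : ℕ, 3 ≤ i → Subsingleton (EtCoh.H C F i)) ∧
      e C F = (2 - 2 * (Curv2.genus k C : ℝ) - S.card) * lg ((EtCoh.stalk η).obj F) +
        ∑ x ∈ S, lg ((EtCoh.stalk (ξ x)).obj F) := by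
  obtain ⟨C', _, q, _, _, G, _, _, ρ, h1, h2, h3, h4, h5, h6⟩ := hG k C F j hU
  have hℓ : (ℓ : k) ≠ 0 := by
    have := (Fact.out : ℓ.Prime).ne_zero
    exact_mod_cast this
  obtain ⟨a, b, c⟩ := hT k C ℓ 1 hℓ one_pos F hF (by rwa [pow_one]) j S hS h1 q G ρ h2 h3 h4 h5 h6
    (fun y _ p hp hpk => absurd hpk (by exact_mod_cast hp.ne_zero)) η hη ξ hξ
  refine ⟨⟨a, 2, fun n hn => b n hn⟩, b, ?_⟩
  have e0 : e C F = lg (EtCoh.H C F 0) - lg (EtCoh.H C F 1) + lg (EtCoh.H C F 2) := by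
    unfold e
    rw [chi_eq_sum 2 (fun n hn => b n hn)]
    simp [Finset.sum_range_succ]
    ring
  have pos : ∀ {M : Type (u + 1)} [AddCommGroup M] [Finite M], (0 : ℝ) < Nat.card M := by
    intro M _ _
    exact_mod_cast Nat.card_pos
  have p0 : (0 : ℝ) < Nat.card (EtCoh.H C F 0) := by
    have := a 0
    exact pos
  have p1 : (0 : ℝ) < Nat.card (EtCoh.H C F 1) := by
    have := a 1
    exact pos
  have p2 : (0 : ℝ) < Nat.card (EtCoh.H C F 2) := by
    have := a 2
    exact pos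
  have pη : (0 : ℝ) < Nat.card ((EtCoh.stalk η).obj F) := pos
  have pξ : ∀ x ∈ S, (0 : ℝ) < Nat.card ((EtCoh.stalk (ξ x)).obj F) := by
    intro x hx
    have := hfin x hx
    exact pos
  have c' : ((Nat.card (EtCoh.H C F 0) * Nat.card (EtCoh.H C F 2) *
          Nat.card ((EtCoh.stalk η).obj F) ^ (2 * Curv2.genus k C) *
            ∏ x ∈ S, Nat.card ((EtCoh.stalk η).obj F) : ℕ) : ℝ) =
        ((Nat.card (EtCoh.H C F 1) * Nat.card ((EtCoh.stalk η).obj F) ^ 2 *
          ∏ x ∈ S, Nat.card ((EtCoh.stalk (ξ x)).obj F) : ℕ) : ℝ) := congrArg _ c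
  push_cast at c'
  have c2 := congrArg Real.log c'
  have pprod : (0 : ℝ) < ∏ x ∈ S, (Nat.card ((EtCoh.stalk (ξ x)).obj F) : ℝ) :=
    Finset.prod_pos pξ
  have pprod' : (0 : ℝ) < ∏ x ∈ S, (Nat.card ((EtCoh.stalk η).obj F) : ℝ) :=
    Finset.prod_pos fun _ _ => pη
  rw [Real.log_mul (by positivity) pprod'.ne', Real.log_mul (by positivity) (by positivity),
    Real.log_mul p0.ne' p2.ne', Real.log_mul (by positivity) pprod.ne',
    Real.log_mul p1.ne' (by positivity), Real.log_pow, Real.log_pow,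
    Real.log_prod (fun x hx => (pξ x hx).ne'), Real.log_prod (fun x hx => pη.ne'),
    Finset.sum_const, nsmul_eq_mul] at c2
  rw [e0]
  simp only [lg]
  push_cast at c2
  linarith

end Groth.Agent.Vancyc.H588.Gos
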