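import Groth.Agent.Vancyc.H588.Gos
import Groth.Agent.Sga4B.ShriekTools
import Groth.Agent.Etcore.ShriekUnique
import Groth.Agent.EtpbcB.GeomPointIndep
import Groth.Agent.Etrest.ConsClass
import Mathlib.AlgebraicGeometry.AlgClosed.Basic

/-!
# The Euler characteristic formula for sheaves on the affine line extended by zero

`C` is a smooth proper connected curve over `k` algebraically closed of characteristic zero, `A ⊂ C` the
complement of one point; `gosA` is the formula
`e(C, w_! H) = (1 - 2g - #S) log #H_η + ∑_{x ∈ S} log #H_x`.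
-/

set_option autoImplicit false
universe u
open CategoryTheory CategoryTheory.Limits AlgebraicGeometry Opposite

namespace Groth.Agent.Vancyc.H588.GosA

open Groth.Agent.Lefpen.H714 EulerAlg EulerEt Gos

/-- The stalk of `w_! H` at a point of `A`. -/
theorem lg_stalk_extZero {A C : Scheme.{u}} (w : A ⟶ C) [IsOpenImmersion w] (H : EtCoh.Ab A)
    {Ω Ω' : Type u} [Field Ω] [IsSepClosed Ω] [Field Ω'] [IsSepClosed Ω']
    (ξ : Spec (CommRingCat.of Ω) ⟶ C) (η : Spec (CommRingCat.of Ω') ⟶ A)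
    (h : ξ default = w (η default)) :
    Nonempty ((EtCoh.stalk ξ).obj ((EtShriek.extZero w).obj H) ≃ (EtCoh.stalk η).obj H) := by
  obtain ⟨e⟩ := EtpbcB.GeomPointIndep.nonempty_stalkIso ξ (η ≫ w) (by rw [h]; rfl)
  have e1 : (EtCoh.stalk ξ).obj ((EtShriek.extZero w).obj H) ≅ (EtCoh.stalk η).obj H :=
    e.app _ ≪≫ (Etbase.StalkPull.stalkPullIso w η).app _ ≪≫
      (EtCoh.stalk η).mapIso (Sga4B.ShriekTools.pullExtZeroIso w H)
  exact ⟨e1.addCommGroupIsoToAddEquiv.toEquiv⟩

variable {k : Type u} [Field k] [IsAlgClosed k] [CharZero k] {C : Scheme.{u}}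
  [C.Over (Spec (CommRingCat.of k))] [ConnectedSpace C] [IsProper (C ↘ Spec (CommRingCat.of k))]
  [SmoothOfRelativeDimension 1 (C ↘ Spec (CommRingCat.of k))]

theorem gosA (hT : TameEC.{u}) (hG : GalDatum.{u}) (ℓ : ℕ) [Fact ℓ.Prime]
    {A : Scheme.{u}} (w : A ⟶ C) [IsOpenImmersion w] (x₀ : C) (hw : (Set.range w)ᶜ = {x₀})
    (H : EtCoh.Ab A) (hH : EtPBC.IsConstructible H) (hHn : EtCoh.KilledBy ℓ H)
    {U : Scheme.{u}} (u : U ⟶ A) [IsOpenImmersion u] [Nonempty U]
    (S : Finset A) (hS : (S : Set A) = (Set.range u)ᶜ) (hSc : ∀ a ∈ S, IsClosed ({a} : Set A))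
    (hU : EtCoh.IsFiniteLocallyConstant ((EtCoh.pull u).obj H))
    {Ω : Type u} [Field Ω] [IsSepClosed Ω] (η : Spec (CommRingCat.of Ω) ⟶ A)
    (hη : η default ∈ Set.range u)
    {K : A → Type u} [∀ a, Field (K a)] [∀ a, IsSepClosed (K a)]
    (ξ : ∀ a : A, (Spec (CommRingCat.of (K a)) ⟶ A)) (hξ : ∀ a ∈ S, ξ a default = a) :
    GoodE C ((EtShriek.extZero w).obj H) ∧
      e C ((EtShriek.extZero w).obj H) =
        (1 - 2 * (Curv2.genus k C : ℝ) - S.card) * lg ((EtCoh.stalk η).obj H) +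
        ∑ a ∈ S, lg ((EtCoh.stalk (ξ a)).obj H) := by
  classical
  have hℓp : ℓ.Prime := Fact.out
  have hCc : CompactSpace C := QuasiCompact.compactSpace_of_compactSpace (C ↘ Spec (CommRingCat.of k))
  have hCl : IsLocallyNoetherian C := LocallyOfFiniteType.isLocallyNoetherian (C ↘ Spec (CommRingCat.of k))
  have hCn : IsNoetherian C := { }
  have hJ : JacobsonSpace C := LocallyOfFiniteType.jacobsonSpace (C ↘ Spec (CommRingCat.of k))
  have hx₀ : IsClosed ({x₀} : Set C) := by
    rw [← hw]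
    exact w.isOpenEmbedding.isOpen_range.isClosed_compl
  have hinj : Function.Injective w := w.isOpenEmbedding.injective
  have hclA : ∀ a ∈ S, IsClosed ({w a} : Set C) := by
    intro a ha
    apply isClosed_singleton_of_isLocallyClosed_singleton
    have := (hSc a ha).isLocallyClosed.image w.isOpenEmbedding.isInducing
      w.isOpenEmbedding.isOpen_range.isLocallyClosed
    rwa [Set.image_singleton] at this
  have hx₀w : ∀ a : A, w a ≠ x₀ := by
    intro a ha
    have : x₀ ∈ (Set.range w)ᶜ := by rw [hw]; rfl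
    exact this ⟨a, ha⟩
  let F := (EtShriek.extZero w).obj H
  let S' : Finset C := insert x₀ (S.image w)
  have hx₀S : x₀ ∉ S.image w := by
    intro h
    obtain ⟨a, -, ha⟩ := Finset.mem_image.1 h
    exact hx₀w a ha
  have hcl : ∀ x ∈ S', IsClosed ({x} : Set C) := by
    intro x hx
    rcases Finset.mem_insert.1 hx with rfl | hx
    · exact hx₀
    · obtain ⟨a, ha, rfl⟩ := Finset.mem_image.1 hx
      exact hclA a ha
  let c : Spec (CommRingCat.of Ω) ⟶ Spec (CommRingCat.of k) := η ≫ w ≫ (C ↘ Spec (CommRingCat.of k))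
  let ξ' : C → (Spec (CommRingCat.of Ω) ⟶ C) := fun x =>
    if hx : IsClosed ({x} : Set C) then c ≫ pointOfClosedPoint (C ↘ Spec (CommRingCat.of k)) x hx
    else η ≫ w
  have hξ' : ∀ x ∈ S', ∀ p, ξ' x p = x := by
    intro x hx p
    simp only [ξ', dif_pos (hcl x hx)]
    rw [Scheme.Hom.comp_apply]
    exact pointOfClosedPoint_apply _ _ _ _
  have hUne : Nonempty U := inferInstance
  have hS' : (S' : Set C) = (Set.range (u ≫ w).base)ᶜ := by
    ext x
    simp only [S', Finset.coe_insert, Finset.coe_image, Set.mem_insert_iff, Set.mem_image,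
      Set.mem_compl_iff, Set.mem_range]
    constructor
    · rintro (rfl | ⟨a, ha, rfl⟩)
      · rintro ⟨y, hy⟩
        exact hx₀w (u y) hy
      · rintro ⟨y, hy⟩
        have h1 : u y = a := hinj hy
        have h2 : a ∈ (Set.range u)ᶜ := by rw [← hS]; exact ha
        exact h2 ⟨y, h1⟩
    · intro h
      by_cases hx : x ∈ Set.range w
      · obtain ⟨a, rfl⟩ := hx
        refine Or.inr ⟨a, ?_, rfl⟩
        rw [hS]
        rintro ⟨y, rfl⟩
        exact h ⟨y, rfl⟩
      · left
        have : x ∈ (Set.range w)ᶜ := hx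
        rw [hw] at this
        exact this
  have hFU : EtCoh.IsFiniteLocallyConstant ((EtCoh.pull (u ≫ w)).obj F) := by
    refine Etrest.ConstBasic.isFiniteLocallyConstant_of_iso ?_ hU
    exact ((EtCore.pullComp u w).app F ≪≫
      (EtCoh.pull u).mapIso (Sga4B.ShriekTools.pullExtZeroIso w H)).symm
  have hFc : EtPBC.IsConstructible F := Etrest.ConsClass.isConstructible_extZero w H hH
  have hFn : EtCoh.KilledBy ℓ F := Sga4B.ShriekTools.killedBy_extZero w ℓ H hHn
  have fη : Finite ((EtCoh.stalk (η ≫ w)).obj F) :=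
    EtpbcB.GeomPointIndep.finite_stalk_of_constructible (η ≫ w) F hFc
  obtain ⟨g1, -, g3⟩ := gos (k := k) hT hG ℓ F hFc hFn (u ≫ w) S' hS' hFU (η ≫ w)
    (by
      rintro _ ⟨p, rfl⟩
      obtain rfl : p = default := Subsingleton.elim _ _
      obtain ⟨y, hy⟩ := hη
      exact ⟨y, by
        change w (u y) = w (η default)
        rw [hy]⟩) ξ'
    (by
      intro x hx
      ext y
      constructor
      · rintro ⟨p, rfl⟩
        exact hξ' x hx p
      · rintro rfl
        exact ⟨default, hξ' _ hx _⟩)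
    (fun x _ => EtpbcB.GeomPointIndep.finite_stalk_of_constructible (ξ' x) F hFc)
  refine ⟨g1, ?_⟩
  obtain ⟨eη⟩ := lg_stalk_extZero w H (η ≫ w) η rfl
  have hz : lg ((EtCoh.stalk (ξ' x₀)).obj F) = 0 := by
    have h1 : IsZero ((EtCoh.stalk (ξ' x₀)).obj F) := by
      refine Etcore.ShriekUnique.isZero_stalk_extZero' w (ξ' x₀) ?_ H
      rw [hξ' x₀ (Finset.mem_insert_self _ _)]
      rintro ⟨a, ha⟩
      exact hx₀w a ha
    have := AddCommGrpCat.subsingleton_of_isZero h1
    exact lg_of_subsingleton _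
  rw [g3, Finset.sum_insert hx₀S, hz, Finset.sum_image (fun a _ b _ h => hinj h),
    Finset.card_insert_of_notMem hx₀S, Finset.card_image_of_injective _ hinj, lg_congr eη, zero_add]
  have hsum : ∑ a ∈ S, lg ((EtCoh.stalk (ξ' (w a))).obj F) = ∑ a ∈ S, lg ((EtCoh.stalk (ξ a)).obj H) := by
    refine Finset.sum_congr rfl fun a ha => ?_
    obtain ⟨e1⟩ := lg_stalk_extZero w H (ξ' (w a)) (ξ a) (by
      rw [hξ' (w a) (Finset.mem_insert_of_mem (Finset.mem_image_of_mem w ha)), hξ a ha])
    exact lg_congr e1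
  rw [hsum]
  push_cast
  ring

end Groth.Agent.Vancyc.H588.GosA
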